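import Cfsg.Agent.Lib.Leech.Aut.Cols

/-! Fast evaluation of expressions on one packed vector. -/

set_option autoImplicit false

namespace CfsgLib.Leech.Aut

open Cfsg CfsgLib CfsgLib.Leech.Stab

/-- One step: the packed image of a packed vector under columns, in natural numbers. -/
def stepC (cols : List ℕ) (n : ℕ) : ℕ :=
  Nat.div (Nat.sub (Nat.add (sumFC cols n) (Nat.mul 392 offN))
    (Nat.add (Nat.mul offN (sumF cols n)) (Nat.mul 16 cols.sum))) 8

/-- Evaluate the argument before applying. -/
def strictN (f : ℕ → ℕ) : ℕ → ℕ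
  | 0 => f 0
  | k + 1 => f (k + 1)

theorem strictN_eq (f : ℕ → ℕ) : ∀ n, strictN f n = f n
  | 0 => rfl
  | _ + 1 => rfl

/-- Iteration. -/
def iterN (f : ℕ → ℕ) : ℕ → ℕ → ℕ
  | 0, n => n
  | k + 1, n => strictN (iterN f k) (f n)

/-- Action of an expression in maps. -/
def Ex.act (L : List (ℕ → ℕ)) : Ex → ℕ → ℕ
  | .gen i => L.getD i id
  | .mul a b => fun n => strictN (a.act L) (b.act L n)
  | .pw a k => iterN (a.act L) k

/-- A map of packed vectors following an element. -/
def Follows (g : Co0) (f : ℕ → ℕ) : Prop :=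
  ∀ (v : leechLattice) (n : ℕ), sqNorm (v : GolayPt → ℤ) ≤ 80 → Stab.Rep (v : GolayPt → ℤ) n →
    Stab.Rep ((g • v : leechLattice) : GolayPt → ℤ) (f n)

theorem follows_one : Follows 1 id := fun v n _ h => by rw [one_smul]; exact h

theorem Follows.mul {g h : Co0} {a b : ℕ → ℕ} (ha : Follows g a) (hb : Follows h b) :
    Follows (g * h) fun n => strictN a (b n) := fun v n hv hn => by
  simp only [mul_smul, strictN_eq]
  exact ha _ _ (by rw [sqNorm_smul]; exact hv) (hb v n hv hn)

theorem follows_iter {g : Co0} {f : ℕ → ℕ} (h : Follows g f) : ∀ k, Follows (g ^ k) (iterN f k)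
  | 0 => by rw [pow_zero]; exact follows_one
  | k + 1 => fun v n hv hn => by
    rw [pow_succ, mul_smul, iterN, strictN_eq]
    exact follows_iter h k _ _ (by rw [sqNorm_smul]; exact hv) (h v n hv hn)

theorem follows_stepC {g : Co0} {cols : List ℕ} (h : Valid g cols) : Follows g (stepC cols) := by
  intro v n hv hn
  obtain ⟨hlen, -⟩ := valid_iff.1 h
  have e := applyC_eq h hn hv
  have e2 := dotZ_dig cols n
  rw [hlen] at e2
  rw [applyC, e2] at e
  have hpos := rep_packL (f := ((g • v : leechLattice) : GolayPt → ℤ)) (by rw [sqNorm_smul]; exact hv)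
  simp only [Stab.Rep, colZ, offN_eq] at hpos e ⊢
  set S := packL (lin (listOf ((g • v : leechLattice) : GolayPt → ℤ))) with hS
  have h1 : Nat.add (sumFC cols n) (Nat.mul 392 offN) =
      8 * S + Nat.add (Nat.mul offN (sumF cols n)) (Nat.mul 16 cols.sum) := by
    generalize cols.sum = T at e ⊢
    zify
    simp only [Nat.add_eq, Nat.mul_eq]
    push_cast
    simp only [Nat.cast_ofNat] at e
    linarith
  have h2 : stepC cols n = S := by
    unfold stepC
    rw [h1]
    show (8 * S + _ - _) / 8 = S
    rw [Nat.add_sub_cancel, Nat.mul_div_cancel_left _ (by norm_num)]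
  rw [h2]; exact hpos

theorem Ex.follows {l : List Co0} {L : List (ℕ → ℕ)} (h : List.Forall₂ Follows l L) :
    ∀ e : Ex, Follows (e.eval l) (e.act L)
  | .gen i => by
    simp only [Ex.eval, Ex.act]
    induction h generalizing i with
    | nil => simpa using follows_one
    | cons h1 _ ih =>
      cases i with
      | zero => simpa using h1
      | succ j => simpa using ih j
  | .mul a b => (Ex.follows h a).mul (Ex.follows h b)
  | .pw a k => follows_iter (Ex.follows h a) k

/-- A map moves some frame vector off itself and its negative. -/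
def movesB (f : ℕ → ℕ) : Bool :=
  (List.range 2).any fun j => let r := packL (lin (listOf (e8 (Golay.pt j))));
    strictN (fun m => if colZ m == colZ r || colZ m == -colZ r then 0 else 1) (f r) == 1

theorem moves_spec {g : Co0} {f : ℕ → ℕ} (hf : Follows g f) (h : movesB f = true) :
    g ≠ 1 ∧ g ≠ negEl := by
  simp only [movesB, List.any_eq_true, List.mem_range, strictN_eq, beq_iff_eq] at h
  obtain ⟨j, -, hj⟩ := h
  set r := packL (lin (listOf (e8 (Golay.pt j)))) with hr
  have h80 : sqNorm (e8L (Golay.pt j) : GolayPt → ℤ) ≤ 80 := (sqNorm_e8 _).le.trans (by norm_num)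
  have hrep : Stab.Rep (e8L (Golay.pt j) : GolayPt → ℤ) r := rep_packL h80
  have hR := hf _ r h80 hrep
  simp only [Bool.or_eq_true, beq_iff_eq] at hj
  split at hj
  · exact absurd hj (by norm_num)
  rename_i hne
  constructor <;> rintro rfl <;> apply hne
  · left
    rw [one_smul] at hR
    exact hR.symm.trans hrep
  · right
    rw [coe_negEl_smul] at hR
    rw [← (show lin (listOf (-(e8L (Golay.pt j) : GolayPt → ℤ))) = colZ (f r) from hR),
      ← linHom_apply, map_neg, linHom_apply]
    exact congrArg Neg.neg hrep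

end CfsgLib.Leech.Aut
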