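import Cfsg.Agent.Lib.Leech.Simple.Co23
import Cfsg.Prelude.Def_Spor_Conway
import Cfsg.Prelude.Def_KGroupFacts

/-! Transfer of `Out` to the Conway groups as subgroups of permutations of the lattice. -/

set_option autoImplicit false

namespace CfsgLib.Leech.Aut

open Cfsg CfsgLib

theorem card_out_congr {G G' : Type} [Group G] [Group G'] (e : G ≃* G') :
    Nat.card (Cfsg.Out G) = Nat.card (Cfsg.Out G') := by
  refine Nat.card_congr (QuotientGroup.congr (Cfsg.Inn G) (Cfsg.Inn G') (MulAut.congr e) ?_).toEquiv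
  ext φ
  constructor
  · rintro ⟨_, ⟨g, rfl⟩, rfl⟩
    exact ⟨e g, MulEquiv.ext fun z => by simp [MulAut.congr]⟩
  · rintro ⟨g, rfl⟩
    exact ⟨_, ⟨e.symm g, rfl⟩, MulEquiv.ext fun z => by simp [MulAut.congr]⟩

/-- A stabiliser in Co0 as the intersection of two groups of permutations. -/
def stabEquiv (v : leechLattice) :
    MulAction.stabilizer Co0 v ≃* ↥(Co0 ⊓ MulAction.stabilizer (Equiv.Perm leechLattice) v) where
  toFun g := ⟨(g.1 : Equiv.Perm leechLattice), g.1.2, g.2⟩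
  invFun g := ⟨⟨g.1, g.2.1⟩, g.2.2⟩
  left_inv _ := rfl
  right_inv _ := rfl
  map_mul' _ _ := rfl

theorem sqNorm_leechV : sqNorm (Spor.leechV : GolayPt → ℤ) = 48 := by
  show sqNorm Spor.vecV = 48
  decide +kernel

theorem sqNorm_leechU : sqNorm (Spor.leechU : GolayPt → ℤ) = 32 := by
  show sqNorm Spor.vecU = 32
  decide +kernel

theorem card_out_co3 (h : Nat.card (Cfsg.Out (MulAction.stabilizer Co0 vecCo3)) = 1) :
    Nat.card (Cfsg.Out ↥Spor.Co3) = 1 := by
  obtain ⟨g, hg⟩ := Orbits.transitive48 vecCo3 Spor.leechV sqNorm_vecCo3 sqNorm_leechV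
  rw [← card_out_congr (G := MulAction.stabilizer Co0 vecCo3) (G' := ↥Spor.Co3)
    ((MulAction.stabilizerEquivStabilizer (g := g) hg.symm).trans (stabEquiv Spor.leechV))]
  exact h

theorem card_out_co2 (h : Nat.card (Cfsg.Out (MulAction.stabilizer Co0 vecCo2)) = 1) :
    Nat.card (Cfsg.Out ↥Spor.Co2) = 1 := by
  obtain ⟨g, hg⟩ := Orbits.transitive32 vecCo2 Spor.leechU sqNorm_vecCo2 sqNorm_leechU
  rw [← card_out_congr (G := MulAction.stabilizer Co0 vecCo2) (G' := ↥Spor.Co2)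
    ((MulAction.stabilizerEquivStabilizer (g := g) hg.symm).trans (stabEquiv Spor.leechU))]
  exact h

end CfsgLib.Leech.Aut
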