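import Cfsg.Agent.Lib.Leech.Aut.Co1Engine

/-! Every candidate but the identity violates a relation. -/

set_option autoImplicit false
set_option maxRecDepth 100000

namespace CfsgLib.Leech.Aut.CoOne

theorem candsA_ok : candsA = true := by decide +kernel

theorem candsB_ok : candsB = true := by decide +kernel

end CfsgLib.Leech.Aut.CoOne
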