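import Cfsg.Agent.Lib.M24Elt.AutCheck

/-!
Rigidity of automorphisms from an element `x` of prime order with small centraliser, an element `z`
multiplying the exponent of `x`, and two further elements determined up to the centraliser of `z`.
-/

set_option autoImplicit false

namespace CfsgLib.Leech.Aut

open Cfsg

variable {G : Type*} [Group G]

/-- Four elements with the data pinning automorphisms. -/
structure Pins (G : Type*) [Group G] where
  x : G
  z : G
  q : G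
  t : G
  k' : ℕ
  hx : orderOf x = 23
  hC : Subgroup.centralizer ({x} : Set G) ≤ Subgroup.zpowers x
  hzx : z * x * z⁻¹ = x ^ 12
  hz : orderOf z = 11
  hq : q * z * q⁻¹ = z ^ k'
  hcz : ∀ g : G, g * z = z * g → ∃ i : ℕ, i < 11 ∧ ∃ b : ℕ, b < 2 ∧ g = z ^ i * t ^ b
  ht : t * t = 1
  htz : t * z = z * t
  hcand : ∀ e : ℕ, e < 2 → ∀ i : ℕ, i < 11 → ∀ b : ℕ, b < 2 → ∀ a : MulAut G,
    a x = x ^ (1 + 21 * e) → a z = z → a t = t → a q = q * (z ^ i * t ^ b) → a x = x ∧ a q = q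

namespace Pins

variable (P : Pins G)

/-- The subgroup generated by the four elements. -/
def gen : Subgroup G := Subgroup.closure {P.x, P.z, P.q, P.t}

theorem x_mem : P.x ∈ P.gen := Subgroup.subset_closure (by simp)
theorem z_mem : P.z ∈ P.gen := Subgroup.subset_closure (by simp)
theorem q_mem : P.q ∈ P.gen := Subgroup.subset_closure (by simp)
theorem t_mem : P.t ∈ P.gen := Subgroup.subset_closure (by simp)

theorem pow_mod (n : ℕ) : P.x ^ (n % 23) = P.x ^ n := by rw [← P.hx, pow_mod_orderOf]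

theorem z_conj (n : ℕ) : ∀ i : ℕ, P.z ^ i * P.x ^ n * (P.z ^ i)⁻¹ = P.x ^ (n * 12 ^ i)
  | 0 => by simp
  | i + 1 => by
    rw [pow_succ, pow_succ, ← mul_assoc n, show P.z ^ i * P.z * P.x ^ n * (P.z ^ i * P.z)⁻¹ =
      P.z ^ i * (P.z * P.x ^ n * P.z⁻¹) * (P.z ^ i)⁻¹ by group, ← conj_pow, P.hzx, ← pow_mul,
      z_conj (12 * n) i, show 12 * n * 12 ^ i = n * 12 ^ i * 12 by ring]

theorem cover : ∀ j : Fin 23, j.val ≠ 0 → ∃ i : Fin 11, ∃ e : Fin 2,
    j.val * 12 ^ i.val % 23 = 1 + 21 * e.val := by decide +kernel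

theorem t_unique {g : G} (hg : g * P.z = P.z * g) (h2 : g * g = 1) : g = 1 ∨ g = P.t := by
  obtain ⟨i, hi, b, hb, rfl⟩ := P.hcz g hg
  have hc : Commute P.t P.z := P.htz
  have h3 : P.z ^ (i + i) * P.t ^ (b + b) = 1 := by
    rw [pow_add, pow_add, ← h2, (hc.pow_pow b i).symm.mul_mul_mul_comm]
  have ht2 : P.t ^ (b + b) = 1 := by rw [← two_mul, pow_mul, pow_two, P.ht, one_pow]
  rw [ht2, mul_one] at h3
  have h4 := orderOf_dvd_of_pow_eq_one h3
  rw [P.hz] at h4
  obtain rfl : i = 0 := by omega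
  interval_cases b <;> simp

/-- An automorphism keeping the group of `x` fixes the four elements after an inner one. -/
theorem normalise (a : MulAut G) {j : ℕ} (hj : a P.x = P.x ^ j) :
    ∃ c ∈ P.gen, ∀ g ∈ P.gen, (MulAut.conj c * a) g = g := by
  have hj0 : j % 23 ≠ 0 := fun e => by
    rw [← P.pow_mod, e, pow_zero, map_eq_one_iff a a.injective] at hj
    have := P.hx; rw [hj, orderOf_one] at this; omega
  obtain ⟨i, e, hie⟩ := cover ⟨j % 23, Nat.mod_lt _ (by norm_num)⟩ hj0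
  set a1 : MulAut G := MulAut.conj (P.z ^ i.val) * a
  have hx1 : a1 P.x = P.x ^ (1 + 21 * e.val) := by
    rw [MulAut.mul_apply, MulAut.conj_apply, hj, P.z_conj, ← P.pow_mod, Nat.mul_mod, ← hie]
    simp [Nat.mul_mod]
  set n := 1 + 21 * e.val with hn
  have hcent : ((P.z)⁻¹ * a1 P.z) * P.x = P.x * ((P.z)⁻¹ * a1 P.z) := by
    have h1 := congrArg a1 P.hzx
    rw [map_mul, map_mul, map_inv, map_pow, hx1] at h1
    have h2 : P.z * P.x ^ n * P.z⁻¹ = (P.x ^ n) ^ 12 := by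
      have := P.z_conj n 1
      rw [pow_one, pow_one] at this
      rw [this, ← pow_mul]
    have h3 : Commute ((P.z)⁻¹ * a1 P.z) (P.x ^ n) := by
      show _ = _
      calc (P.z)⁻¹ * a1 P.z * P.x ^ n
          = (P.z)⁻¹ * (a1 P.z * P.x ^ n * (a1 P.z)⁻¹) * a1 P.z := by group
        _ = (P.z)⁻¹ * (P.z * P.x ^ n * P.z⁻¹) * a1 P.z := by rw [h1, h2]
        _ = P.x ^ n * ((P.z)⁻¹ * a1 P.z) := by group
    have h4 : Commute ((P.z)⁻¹ * a1 P.z) P.x := by
      have h5 : (P.x ^ n) ^ n = P.x := by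
        rw [← pow_mul, ← P.pow_mod]
        have he : e.val = 0 ∨ e.val = 1 := by have := e.isLt; omega
        rcases he with he | he <;> simp [hn, he]
      rw [← h5]; exact h3.pow_right n
    exact h4.eq
  obtain ⟨m, hm⟩ := P.hC (Subgroup.mem_centralizer_singleton_iff.2 hcent)
  set a2 : MulAut G := MulAut.conj (P.x ^ (-m)) * a1
  have hx2 : a2 P.x = P.x ^ n := by
    rw [MulAut.mul_apply, MulAut.conj_apply, hx1, ← zpow_natCast, ← zpow_add, ← zpow_neg,
      ← zpow_add]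
    congr 1; ring
  have hz2 : a2 P.z = P.z := by
    have hzm : a1 P.z = P.z * P.x ^ m := by
      rw [show P.x ^ m = (P.z)⁻¹ * a1 P.z from hm, mul_inv_cancel_left]
    have h2 : P.z * P.x ^ (2 : ℤ) * P.z⁻¹ = P.x := by
      have := P.z_conj 2 1
      rw [pow_one, pow_one, ← P.pow_mod (2 * 12)] at this
      rw [zpow_ofNat]; simpa using this
    have h2m : P.z⁻¹ * P.x ^ (-m) * P.z = P.x ^ (-(2 * m)) := by
      have h6 : (P.z * P.x ^ (2 : ℤ) * P.z⁻¹) ^ (-m) = P.x ^ (-m) := by rw [h2]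
      rw [conj_zpow, ← zpow_mul] at h6
      rw [← h6, show -(2 * m) = 2 * -m by ring]; group
    rw [MulAut.mul_apply, MulAut.conj_apply, hzm]
    calc P.x ^ (-m) * (P.z * P.x ^ m) * (P.x ^ (-m))⁻¹
        = P.z * (P.z⁻¹ * P.x ^ (-m) * P.z) * (P.x ^ m * P.x ^ m) := by group
      _ = P.z := by
        rw [h2m, mul_assoc, ← zpow_add, ← zpow_add, show -(2 * m) + (m + m) = 0 by ring, zpow_zero,
          mul_one]
  have ht2 : a2 P.t = P.t := by
    rcases P.t_unique (g := a2 P.t) (by rw [← hz2, ← map_mul, ← map_mul, P.htz])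
      (by rw [← map_mul, P.ht, map_one]) with h | h
    · rw [(map_eq_one_iff a2 a2.injective).1 h, map_one]
    · exact h
  obtain ⟨i2, hi2, b, hb, hb'⟩ := P.hcz (P.q⁻¹ * a2 P.q) (by
    have h1 := congrArg a2 P.hq
    rw [map_mul, map_mul, map_inv, map_pow, hz2, ← P.hq] at h1
    calc P.q⁻¹ * a2 P.q * P.z = P.q⁻¹ * (a2 P.q * P.z * (a2 P.q)⁻¹) * a2 P.q := by group
      _ = P.z * (P.q⁻¹ * a2 P.q) := by rw [h1]; group)
  obtain ⟨hx3, hq3⟩ := P.hcand e.val e.isLt i2 hi2 b hb a2 hx2 hz2 ht2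
    (by rw [← hb', mul_inv_cancel_left])
  refine ⟨P.x ^ (-m) * P.z ^ i.val,
    mul_mem (zpow_mem P.x_mem _) (pow_mem P.z_mem _), fun g hg => ?_⟩
  rw [map_mul, mul_assoc]
  show a2 g = g
  induction hg using Subgroup.closure_induction with
  | mem y hy =>
    simp only [Set.mem_insert_iff, Set.mem_singleton_iff] at hy
    rcases hy with rfl | rfl | rfl | rfl
    exacts [hx3, hz2, hq3, ht2]
  | one => exact map_one _
  | mul u w _ _ hu hw => rw [map_mul, hu, hw]
  | inv u _ hu => rw [map_inv, hu]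

theorem zpowers_x_le : Subgroup.zpowers P.x ≤ P.gen := Subgroup.zpowers_le.2 P.x_mem

/-- The normaliser of the group of `x` lies in the generated subgroup. -/
theorem mem_of_conj_mem (n : G) (h : n * P.x * n⁻¹ ∈ Subgroup.zpowers P.x) : n ∈ P.gen := by
  have h' : n * P.x * n⁻¹ ∈ Submonoid.powers P.x := by
    have hfin : IsOfFinOrder P.x := orderOf_pos_iff.1 (by rw [P.hx]; norm_num)
    exact hfin.mem_powers_iff_mem_zpowers.2 h
  obtain ⟨j, hj⟩ := (Submonoid.mem_powers_iff _ _).1 h'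
  obtain ⟨c, hc, hfix⟩ := P.normalise (MulAut.conj n) (j := j) (by rw [MulAut.conj_apply, hj])
  have h1 := hfix P.x P.x_mem
  rw [← map_mul, MulAut.conj_apply, mul_inv_eq_iff_eq_mul] at h1
  have h2 : c * n ∈ P.gen := P.zpowers_x_le (P.hC (Subgroup.mem_centralizer_singleton_iff.2 h1))
  have := mul_mem (inv_mem hc) h2
  rwa [inv_mul_cancel_left] at this

theorem mem_of_conj_mem_z (hk : ∀ j : Fin 11, j.val ≠ 0 → ∃ i : Fin 10, P.k' ^ i.val % 11 = j.val)
    (n : G) (h : n * P.z * n⁻¹ ∈ Subgroup.zpowers P.z) : n ∈ P.gen := by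
  have hfin : IsOfFinOrder P.z := orderOf_pos_iff.1 (by rw [P.hz]; norm_num)
  obtain ⟨j, hj⟩ := (Submonoid.mem_powers_iff _ _).1 (hfin.mem_powers_iff_mem_zpowers.2 h)
  have hj0 : j % 11 ≠ 0 := fun e => by
    rw [← pow_mod_orderOf, P.hz, e, pow_zero, eq_comm, conj_eq_one_iff] at hj
    have := P.hz; rw [hj, orderOf_one] at this; omega
  obtain ⟨i, hi⟩ := hk ⟨j % 11, Nat.mod_lt _ (by norm_num)⟩ hj0
  have hq : ∀ i : ℕ, P.q ^ i * P.z * (P.q ^ i)⁻¹ = P.z ^ (P.k' ^ i) := by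
    intro i
    induction i with
    | zero => simp
    | succ i ih =>
      rw [pow_succ, show P.q ^ i * P.q * P.z * (P.q ^ i * P.q)⁻¹ =
        P.q ^ i * (P.q * P.z * P.q⁻¹) * (P.q ^ i)⁻¹ by group, P.hq, ← conj_pow, ih, ← pow_mul,
        ← pow_succ]
  have e : P.q ^ i.val * P.z * (P.q ^ i.val)⁻¹ = n * P.z * n⁻¹ := by
    rw [hq, ← hj, ← pow_mod_orderOf P.z j, ← pow_mod_orderOf, P.hz, hi]
  obtain ⟨a, -, b, -, hab⟩ := P.hcz ((P.q ^ i.val)⁻¹ * n) (by
    calc (P.q ^ i.val)⁻¹ * n * P.z = (P.q ^ i.val)⁻¹ * (n * P.z * n⁻¹) * n := by group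
      _ = P.z * ((P.q ^ i.val)⁻¹ * n) := by rw [← e]; group)
  have h1 : P.z ^ a * P.t ^ b ∈ P.gen := mul_mem (pow_mem P.z_mem _) (pow_mem P.t_mem _)
  rw [← hab] at h1
  have := mul_mem (pow_mem P.q_mem i.val) h1
  rwa [mul_inv_cancel_left] at this

/-- Every automorphism is inner when the four elements generate. -/
theorem card_out [Finite G] (hsq : ¬ 23 ^ 2 ∣ Nat.card G) (hgen : P.gen = ⊤) :
    Nat.card (MulAut G ⧸ (MulAut.conj : G →* MulAut G).range) = 1 := by
  haveI : Fact (Nat.Prime 23) := ⟨by norm_num⟩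
  rw [Nat.card_eq_one_iff_unique]
  refine ⟨⟨?_⟩, ⟨1⟩⟩
  suffices H : ∀ q : MulAut G ⧸ (MulAut.conj : G →* MulAut G).range, q = 1 from
    fun a b => (H a).trans (H b).symm
  intro q
  obtain ⟨a, rfl⟩ := QuotientGroup.mk_surjective q
  obtain ⟨c, hc⟩ := CfsgLib.M24Elt.AutBound.exists_conj_mem (S := Subgroup.zpowers P.x) (k := 1)
    (by rw [Nat.card_zpowers, P.hx, pow_one]) hsq ((a.orderOf_eq P.x).trans P.hx)
  have hfin : IsOfFinOrder P.x := isOfFinOrder_of_finite _
  obtain ⟨j, hj⟩ := (Submonoid.mem_powers_iff _ _).1 (hfin.mem_powers_iff_mem_zpowers.2 hc)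
  obtain ⟨d, -, hfix⟩ := P.normalise (MulAut.conj c * a) (j := j)
    (by rw [MulAut.mul_apply, MulAut.conj_apply, hj])
  rw [QuotientGroup.eq_one_iff]
  refine ⟨(d * c)⁻¹, ?_⟩
  rw [map_inv, inv_eq_iff_mul_eq_one, map_mul, mul_assoc]
  exact MulEquiv.ext fun g => hfix g (hgen ▸ Subgroup.mem_top g)

end Pins

open MulAction in
/-- A subgroup containing the normaliser of a Sylow subgroup of prime order has index one mod `p`. -/
theorem index_mod_eq_one [Finite G] {p : ℕ} [hp : Fact p.Prime] {x : G} (hx : orderOf x = p)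
    (hsq : ¬ p ^ 2 ∣ Nat.card G) {H : Subgroup G} (hxH : x ∈ H)
    (hN : ∀ n : G, n * x * n⁻¹ ∈ Subgroup.zpowers x → n ∈ H) : H.index % p = 1 := by
  have hP : IsPGroup p (Subgroup.zpowers x) :=
    IsPGroup.of_card (n := 1) (by rw [Nat.card_zpowers, hx, pow_one])
  have h := hP.card_modEq_card_fixedPoints (G ⧸ H)
  have huniq : ∀ c ∈ fixedPoints (Subgroup.zpowers x) (G ⧸ H), c = ((1 : G) : G ⧸ H) := by
    intro c hc
    induction c using QuotientGroup.induction_on with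
    | H g =>
      have h1 : x • ((g : G) : G ⧸ H) = (g : G ⧸ H) := hc ⟨x, Subgroup.mem_zpowers x⟩
      rw [MulAction.Quotient.smul_coe, eq_comm, QuotientGroup.eq, smul_eq_mul] at h1
      set u : H := ⟨g⁻¹ * (x * g), h1⟩
      have hu : orderOf u = p := by
        rw [← Subgroup.orderOf_coe, ← hx]
        have := (MulAut.conj g⁻¹).orderOf_eq x
        rw [MulAut.conj_apply, inv_inv, mul_assoc] at this
        exact this
      obtain ⟨w, hw⟩ := CfsgLib.M24Elt.AutBound.exists_conj_mem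
        (S := Subgroup.zpowers (⟨x, hxH⟩ : H)) (k := 1)
        (by rw [Nat.card_zpowers, Subgroup.orderOf_mk, hx, pow_one])
        (fun hd => hsq (hd.trans (Subgroup.card_subgroup_dvd_card H))) hu
      obtain ⟨j, hj⟩ := hw
      have h2 : (w : G) * g⁻¹ ∈ H := hN _ ⟨j, by
        have := congrArg (Subtype.val : H → G) hj
        simp only [u, Subgroup.coe_mul, InvMemClass.coe_inv, SubgroupClass.coe_zpow] at this
        show x ^ j = _
        rw [this]; group⟩
      rw [QuotientGroup.eq, mul_one]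
      have := mul_mem (inv_mem w.2) h2
      rwa [inv_mul_cancel_left] at this
  have hone : fixedPoints (Subgroup.zpowers x) (G ⧸ H) = {((1 : G) : G ⧸ H)} := by
    refine Set.eq_singleton_iff_unique_mem.2 ⟨fun k => ?_, huniq⟩
    obtain ⟨k, hk⟩ := k
    show (k • ((1 : G) : G ⧸ H)) = _
    rw [MulAction.Quotient.smul_coe, smul_eq_mul, mul_one, QuotientGroup.eq, mul_one]
    exact inv_mem (Subgroup.zpowers_le.2 hxH hk)
  rw [Nat.card_coe_set_eq (fixedPoints (Subgroup.zpowers x) (G ⧸ H)), hone, Set.ncard_singleton] at h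
  rw [Subgroup.index, h, Nat.one_mod_eq_one.2 hp.out.one_lt.ne']

end CfsgLib.Leech.Aut
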