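import Cfsg.Agent.Lib.Leech.Simple.Stab11
import Cfsg.Agent.Lib.Leech.Simple.Stab23

/-!
Elements of the stabiliser of a vector `(a, 1^23)` commuting with the monomial element of order 11, or
multiplying its exponent, through the two frame vectors it fixes.
-/

set_option autoImplicit false

namespace CfsgLib.Leech.Aut

open Cfsg CfsgLib

/-- A point on one of the two cycles of the `e`-th power, numbered below 22. -/
def cyc (e n : ℕ) : ZMod 23 :=
  if n < 11 then (2 : ZMod 23) ^ (e * n) else 22 * (2 : ZMod 23) ^ (e * (n - 11))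

/-- The number of a point. -/
def pos (e : ℕ) (x : ZMod 23) : ℕ := ((List.range 22).find? fun n => cyc e n == x).getD 22

/-- The image of a numbered point, given the images of `1` and `22`. -/
def img2 (a b : ZMod 23) (n : ℕ) : ZMod 23 :=
  if n < 11 then (2 : ZMod 23) ^ n * a else (2 : ZMod 23) ^ (n - 11) * b

/-- The only candidate for a permutation with prescribed images. -/
def candFun (e : ℕ) (a b : ZMod 23) : GolayPt → GolayPt
  | none => none
  | some x => if x = 0 then some 0 else some (img2 a b (pos e x))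

/-- Pointwise agreement with a power of the multiplication by two. -/
def isPowTwo (f : GolayPt → GolayPt) (i : ℕ) : Bool :=
  (List.range 24).all fun j => f (Golay.pt j) == ((Golay.pt j).map fun x => (2 : ZMod 23) ^ i * x)

/-- The check that only powers of the multiplication by two are candidates. -/
def candOk (e : ℕ) : Bool :=
  (List.range 23).all fun a => (List.range 23).all fun b =>
    (a == 0 || b == 0) || (let f := candFun e (a : ZMod 23) (b : ZMod 23)
      !m24B f || (e == 1 && (List.range 11).any fun i => isPowTwo f i))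

theorem m24B_of_mem {σ : Equiv.Perm GolayPt} (h : σ ∈ M24) : m24B σ = true := by
  refine List.all_eq_true.2 fun b hb => ?_
  have hmem : Golay.toWord b ∈ golayCode := by
    refine (Golay.toWord_mem_iff ?_).2 ?_
    · revert b; decide +kernel
    · revert b; decide +kernel
  have h2 : Golay.toWord b ∘ σ ∈ golayCode := mem_supports_comp h hmem
  have e : Golay.toWord (Golay.bitsOf (fun i => b.testBit (Golay.bit (σ (Golay.pt i)))) 24) =
      Golay.toWord b ∘ σ := by
    funext p
    simp only [Golay.toWord, Function.comp_apply, Golay.testBit_bitsOf, Golay.bit_lt, Golay.pt_bit,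
      decide_true, Bool.true_and]
  exact (Golay.toWord_mem_iff (Golay.bitsOf_lt _ _)).1 (e ▸ h2)

theorem mulTwoPerm_some (x : ZMod 23) : mulTwoPerm (some x) = some (2 * x) := rfl

theorem mulTwoPerm_pow_some (i : ℕ) (x : ZMod 23) :
    (mulTwoPerm ^ i) (some x) = some ((2 : ZMod 23) ^ i * x) := by
  induction i generalizing x with
  | zero => simp
  | succ i ih => rw [pow_succ, Equiv.Perm.mul_apply, mulTwoPerm_some, ih, pow_succ]; congr 1; ring

theorem mulTwoPerm_pow_none : ∀ i : ℕ, (mulTwoPerm ^ i) none = none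
  | 0 => rfl
  | i + 1 => by rw [pow_succ', Equiv.Perm.mul_apply, mulTwoPerm_pow_none i]; rfl

theorem mulTwo_fixed : ∀ p : GolayPt, mulTwoPerm p = p → p = none ∨ p = some 0 := by decide +kernel

theorem pos_spec : ∀ x : ZMod 23, x ≠ 0 →
    (pos 1 x < 22 ∧ cyc 1 (pos 1 x) = x) ∧ (pos 6 x < 22 ∧ cyc 6 (pos 6 x) = x) := by decide +kernel

/-- A permutation of the code commuting with a power of the multiplication by two is such a power. -/
theorem tau_cases {e : ℕ} (he : e = 1 ∨ e = 6) (hok : candOk e = true) {τ : Equiv.Perm GolayPt}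
    (hτ : τ ∈ M24) (h0 : τ none = none) (hc : mulTwoPerm * τ = τ * mulTwoPerm ^ e) :
    e = 1 ∧ ∃ i : ℕ, i < 11 ∧ τ = mulTwoPerm ^ i := by
  have hstep : ∀ p, τ ((mulTwoPerm ^ e) p) = mulTwoPerm (τ p) := fun p =>
    (congrArg (fun σ : Equiv.Perm GolayPt => σ p) hc).symm
  have hzero : τ (some 0) = some 0 := by
    have h1 := hstep (some 0)
    rw [mulTwoPerm_pow_some, mul_zero] at h1
    rcases mulTwo_fixed _ h1.symm with h2 | h2
    · have := τ.injective (h2.trans h0.symm); simp at this
    · exact h2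
  have hsome : ∀ x : ZMod 23, x ≠ 0 → ∃ y : ZMod 23, τ (some x) = some y ∧ y ≠ 0 := by
    intro x hx
    rcases hp : τ (some x) with _ | y
    · have := τ.injective (hp.trans h0.symm); simp at this
    · refine ⟨y, rfl, ?_⟩
      rintro rfl
      exact hx (Option.some_injective _ (τ.injective (hp.trans hzero.symm)))
  obtain ⟨a, ha, ha0⟩ := hsome 1 one_ne_zero
  obtain ⟨b, hb, hb0⟩ := hsome 22 (by decide)
  have hrep : ∀ (r y : ZMod 23), τ (some r) = some y → ∀ n : ℕ,
      τ (some ((2 : ZMod 23) ^ (e * n) * r)) = some ((2 : ZMod 23) ^ n * y) := by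
    intro r y hr n
    induction n with
    | zero => simpa using hr
    | succ n ih =>
      have h1 := hstep (some ((2 : ZMod 23) ^ (e * n) * r))
      rw [mulTwoPerm_pow_some, ih, mulTwoPerm_some, ← mul_assoc, ← pow_add,
        show e + e * n = e * (n + 1) by ring] at h1
      rw [h1, pow_succ]; congr 1; ring
  have hcand : ∀ p, τ p = candFun e a b p := by
    rintro (_ | x)
    · exact h0
    by_cases hx : x = 0
    · subst hx; simpa [candFun] using hzero
    obtain ⟨hlt, hcy⟩ : pos e x < 22 ∧ cyc e (pos e x) = x := by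
      rcases he with rfl | rfl
      exacts [(pos_spec x hx).1, (pos_spec x hx).2]
    simp only [candFun, if_neg hx, img2]
    by_cases hn : pos e x < 11
    · rw [if_pos hn]
      conv_lhs => rw [← hcy, cyc, if_pos hn]
      have := hrep 1 a ha (pos e x)
      rwa [mul_one] at this
    · rw [if_neg hn]
      conv_lhs => rw [← hcy, cyc, if_neg hn, mul_comm]
      exact hrep 22 b hb _
  have hf : (⇑τ) = candFun e a b := funext hcand
  have h1 := List.all_eq_true.1 (List.all_eq_true.1 hok a.val (List.mem_range.2 (ZMod.val_lt a)))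
    b.val (List.mem_range.2 (ZMod.val_lt b))
  simp only [Bool.or_eq_true, beq_iff_eq, ZMod.val_eq_zero, ha0, hb0, or_self, false_or,
    ZMod.natCast_zmod_val, ← hf, m24B_of_mem hτ, Bool.not_true, Bool.false_eq_true,
    Bool.and_eq_true, List.any_eq_true, List.mem_range] at h1
  obtain ⟨rfl, i, hi, hp⟩ := h1
  refine ⟨rfl, i, hi, Equiv.ext fun p => ?_⟩
  have h2 := List.all_eq_true.1 hp (Golay.bit p) (List.mem_range.2 (Golay.bit_lt p))
  simp only [beq_iff_eq, Golay.pt_bit] at h2
  rw [h2]
  rcases p with _ | x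
  · simp [mulTwoPerm_pow_none]
  · simp [mulTwoPerm_pow_some]

theorem candOk_one : candOk 1 = true := by decide +kernel

theorem candOk_six : candOk 6 = true := by decide +kernel

variable {a : ℤ} {v : leechLattice}

/-- Elements fixing the frame vector and multiplying the exponent of the element of order 11. -/
theorem stab_eight_cases (ha1 : a ≠ 1) (ha2 : a ≠ -1) (ha0 : a ≠ 0)
    (hv : (v : GolayPt → ℤ) = oneVec a) {e : ℕ} (he : e = 1 ∨ e = 6) {g : Co0} (hg : g • v = v)
    (h8 : g • eightVec none = eightVec none) (hc : g * g11 = g11 ^ e * g) :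
    e = 1 ∧ ∃ i : ℕ, i < 11 ∧ g = g11 ^ i := by
  obtain ⟨τ, hτ, c, hcg, hτ0, -, rfl⟩ := mem_stabilizer_eightVec.1 (MulAction.mem_stabilizer_iff.2 h8)
  obtain ⟨-, rfl⟩ := (monoEl_fix_oneVec ha1 ha2 ha0 hv).1 hg
  rw [g11_pow, g11, monoEl_mul, monoEl_mul] at hc
  have hperm : mulTwoPerm * τ = τ * mulTwoPerm ^ e :=
    congrArg (fun p : M24 × golayCode => (p.1 : Equiv.Perm GolayPt)) (monoMap_injective
      (a₁ := (⟨mulTwoPerm * τ, mul_mem mulTwoPerm_mem hτ⟩, ⟨0 + (0 : GolayPt → ZMod 2) ∘ τ,
        golayCode.add_mem hcg (mem_supports_comp hτ (zero_mem _))⟩))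
      (a₂ := (⟨τ * mulTwoPerm ^ e, mul_mem hτ (pow_mem mulTwoPerm_mem e)⟩,
        ⟨0 + (0 : GolayPt → ZMod 2) ∘ ⇑(mulTwoPerm ^ e),
          golayCode.add_mem (zero_mem _) (mem_supports_comp (pow_mem mulTwoPerm_mem e) hcg)⟩)) hc)
  have hok : candOk e = true := by rcases he with rfl | rfl; exacts [candOk_one, candOk_six]
  obtain ⟨rfl, i, hi, rfl⟩ := tau_cases he hok hτ hτ0 hperm
  exact ⟨rfl, i, hi, by rw [g11_pow]⟩

/-- The check of the two fixed frame vectors. -/
def frameOk (a : ℤ) (w : ℤ × ℤ × ℤ × ℤ) : Bool :=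
  (List.range 17).all fun i => (List.range 17).all fun j => (List.range 5).all fun k =>
    (List.range 5).all fun l =>
      let x : ℤ := (i : ℤ) - 8; let y : ℤ := (j : ℤ) - 8; let c : ℤ := (k : ℤ) - 2; let d : ℤ := (l : ℤ) - 2
      !(x ^ 2 + y ^ 2 + 11 * c ^ 2 + 11 * d ^ 2 == 64 && a * x + y + 11 * c + 11 * d == 8 * a) ||
        (!leechB (pat x y c d) || (x, y, c, d) == (8, 0, 0, 0) || (x, y, c, d) == w)

theorem leechB_of_mem {x : GolayPt → ℤ} (h : x ∈ leechLattice) : leechB x = true := by
  obtain ⟨h1, h2, h3⟩ := mem_leech_iff.1 h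
  simp only [leechB, Bool.and_eq_true, List.all_eq_true, List.mem_range, beq_iff_eq]
  exact ⟨⟨fun i _ => h1 _, (Golay.toWord_mem_iff (Golay.bitsOf_lt _ _)).1 ((toWord_maskOf x) ▸ h2)⟩, h3⟩

/-- Where the frame vector goes under elements commuting with a fixed element. -/
theorem eight_cases (hv : (v : GolayPt → ℤ) = oneVec a) {w : ℤ × ℤ × ℤ × ℤ}
    (hw : frameOk a w = true) {g : Co0} (hg : g • v = v)
    (hc : g11 • (g • eightVec none) = g • eightVec none) :
    g • eightVec none = eightVec none ∨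
      ((g • eightVec none : leechLattice) : GolayPt → ℤ) = pat w.1 w.2.1 w.2.2.1 w.2.2.2 := by
  obtain ⟨x, y, c, d, hu⟩ := exists_pat_of_fixed hc
  have hn := sqNorm_smul g (eightVec none)
  rw [hu, sqNorm_pat, sqNorm_eightVec] at hn
  have hd := dotInt_smul g v (eightVec none)
  rw [hg, hu, hv, coe_eightVec] at hd
  have h1 : oneVec a = pat a 1 1 1 := by
    funext i
    have key : ∀ i : GolayPt, (cls i = 0 ↔ i = none) := fun i => cls_eq_zero
    by_cases hi : i = none
    · subst hi; rfl
    · have hne : cls i ≠ 0 := fun e => hi ((key i).1 e)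
      unfold oneVec pat
      rw [if_neg hi]
      obtain ⟨k, hk⟩ : ∃ k, cls i = k := ⟨_, rfl⟩
      rw [hk] at hne ⊢
      fin_cases k <;> simp_all
  rw [h1, dotInt_pat] at hd
  have h8 : dotInt (pat a 1 1 1) (Pi.single none 8) = 8 * a := by
    simp [dotInt, Pi.single_apply, pat, cls, mul_comm]
  rw [h8] at hd
  have bx : -8 ≤ x ∧ x ≤ 8 := by constructor <;> nlinarith [sq_nonneg y, sq_nonneg c, sq_nonneg d]
  have by' : -8 ≤ y ∧ y ≤ 8 := by constructor <;> nlinarith [sq_nonneg x, sq_nonneg c, sq_nonneg d]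
  have bc : -2 ≤ c ∧ c ≤ 2 := by constructor <;> nlinarith [sq_nonneg x, sq_nonneg y, sq_nonneg d]
  have bd : -2 ≤ d ∧ d ≤ 2 := by constructor <;> nlinarith [sq_nonneg x, sq_nonneg y, sq_nonneg c]
  have h := hw
  simp only [frameOk, List.all_eq_true, List.mem_range] at h
  have h' := h (x + 8).toNat (by omega) (y + 8).toNat (by omega) (c + 2).toNat (by omega)
    (d + 2).toNat (by omega)
  rw [show ((x + 8).toNat : ℤ) - 8 = x by omega, show ((y + 8).toNat : ℤ) - 8 = y by omega,
    show ((c + 2).toNat : ℤ) - 2 = c by omega, show ((d + 2).toNat : ℤ) - 2 = d by omega] at h'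
  have hmem : leechB (pat x y c d) = true := leechB_of_mem (hu ▸ Subtype.coe_prop _)
  have hd' : a * x + y + 11 * c + 11 * d = 8 * a := by linarith
  simp only [hn, hd', hmem, BEq.rfl, Bool.and_self, Bool.not_true, Bool.false_or, Bool.or_eq_true,
    beq_iff_eq] at h'
  rcases h' with h' | h'
  · left
    refine Subtype.ext ?_
    simp only [Prod.mk.injEq] at h'
    obtain ⟨rfl, rfl, rfl, rfl⟩ := h'
    rw [hu, coe_eightVec]
    funext i
    by_cases hi : i = none
    · subst hi; simp [pat, cls]
    · have hne : cls i ≠ 0 := fun e => hi (cls_eq_zero.1 e)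
      rw [Pi.single_eq_of_ne hi]
      unfold pat
      obtain ⟨k, hk⟩ : ∃ k, cls i = k := ⟨_, rfl⟩
      rw [hk] at hne ⊢
      fin_cases k <;> simp_all
  · right; rw [hu, ← h']

end CfsgLib.Leech.Aut
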