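import Cfsg.Agent.Lib.Leech.Aut.Cols
import Cfsg.Agent.Lib.Leech.Aut.Criterion
import Cfsg.Agent.Lib.Leech.Aut.Eleven
import Cfsg.Agent.Lib.M24Elt.Basic
import Cfsg.Prelude.Def_KGroupFacts

/-!
A kernel certificate showing that every automorphism of the stabiliser of a vector `(a, 1^23)` in Co0
is inner.
-/

set_option autoImplicit false

namespace CfsgLib.Leech.Aut

open Cfsg CfsgLib CfsgLib.Leech.Stab CfsgLib.Comp
open scoped Pointwise

/-- The columns of a permutation of coordinates. -/
def colsPerm (f : GolayPt → GolayPt) : List ℕ :=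
  (List.range 24).map fun j => packL (lin (listOf fun i => e8 (Golay.pt j) (f i)))

theorem valid_monoEl {τ : Equiv.Perm GolayPt} (hτ : τ ∈ M24) {c : GolayPt → ZMod 2} (hc : c ∈ golayCode)
    (h0 : c = 0) : Valid (monoEl τ hτ c hc) (colsPerm τ) := by
  subst h0
  refine valid_iff.2 ⟨by simp [colsPerm], fun i h => ?_⟩
  have e : ((monoEl τ hτ 0 hc • e8L (Golay.pt i) : leechLattice) : GolayPt → ℤ) =
      fun p => e8 (Golay.pt i) (τ p) := by
    funext p; rw [coe_monoEl_smul]; simp [monoFun, e8L]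
  simp only [colsPerm, List.getElem_map, List.getElem_range]
  rw [← e]
  exact rep_packL (by rw [sqNorm_smul]; simp [e8L, sqNorm_e8])

theorem e8L_none : e8L none = eightVec none := by
  refine Subtype.ext (funext fun i => ?_)
  rw [coe_eightVec]
  show e8 none i = _
  by_cases h : i = none
  · subst h; simp [e8]
  · rw [Pi.single_eq_of_ne h, e8, if_neg fun e => h (Golay.bit_injective e)]

/-- A rooted tree of packed vectors: first child and next sibling. -/
inductive OT where
  | nil : OT
  | node : ℕ → ℕ → OT → OT → OT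

/-- The vectors of a tree. -/
def OT.codes : OT → List ℕ
  | .nil => []
  | .node c _ ch sib => c :: (ch.codes ++ sib.codes)

/-- Each vector is the image of its parent. -/
def OT.ok (gs : List (List ℕ)) : ℕ → OT → Bool
  | _, .nil => true
  | par, .node c g ch sib => Nat.blt g gs.length && (applyB (gs.getD g idC) par c &&
      (ch.ok gs c && sib.ok gs par))

theorem OT.sound {H : Subgroup Co0} {gl : List Co0} {gs : List (List ℕ)}
    (hv : List.Forall₂ Valid gl gs) (hH : ∀ g ∈ gl, g ∈ H) {u : leechLattice}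
    (hu : sqNorm (u : GolayPt → ℤ) ≤ 80) : ∀ (T : OT) (par : ℕ), T.ok gs par = true →
      (∃ h ∈ H, Stab.Rep ((h • u : leechLattice) : GolayPt → ℤ) par) →
      ∀ c ∈ T.codes, ∃ h ∈ H, Stab.Rep ((h • u : leechLattice) : GolayPt → ℤ) c
  | .nil, _, _, _, c, hc => by simp [OT.codes] at hc
  | .node c g ch sib, par, hok, ⟨h, hh, hrep⟩, d, hd => by
    simp only [OT.ok, Bool.and_eq_true, Nat.blt_eq] at hok
    obtain ⟨hg, happ, hch, hsib⟩ := hok
    have hg' : g < gl.length := hv.length_eq ▸ hg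
    have hvg : Valid gl[g] (gs.getD g idC) := by
      rw [List.getD_eq_getElem _ _ hg]; exact hv.get hg' hg
    have hc' : ∃ k ∈ H, Stab.Rep ((k • u : leechLattice) : GolayPt → ℤ) c := by
      refine ⟨gl[g] * h, H.mul_mem (hH _ (List.getElem_mem hg')) hh, ?_⟩
      rw [mul_smul]
      exact rep_smul hvg hrep (by rw [sqNorm_smul]; exact hu) (applyC_of_applyB happ)
    simp only [OT.codes, List.mem_cons, List.mem_append] at hd
    rcases hd with rfl | hd | hd
    · exact hc'
    · exact OT.sound hv hH hu ch c hch hc' d hd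
    · exact OT.sound hv hH hu sib par hsib ⟨h, hh, hrep⟩ d hd

/-- The data of a certificate. -/
structure Cert where
  a : ℤ
  k' : ℕ
  e : ℕ
  m : ℕ
  w : ℤ × ℤ × ℤ × ℤ
  xC : List ℕ
  xiC : List ℕ
  zC : List ℕ
  qC : List ℕ
  tC : List ℕ
  gens : List ℕ
  rels : List Ex
  orb : OT
  quot : ℕ

/-- The permutation of a code. -/
def codeFun (c : ℕ) (p : GolayPt) : GolayPt := Golay.pt (PermCode.get c (Golay.bit p))

theorem codeFun_eq {c : ℕ} (h : PermCode.Ok 24 c) : codeFun c = ⇑(M24Elt.pm c) := by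
  funext p
  rw [codeFun, ← M24Elt.bit_pm h, Golay.pt_bit]

/-- The packed frame vector. -/
def rootC : ℕ := packL (lin (listOf (e8 none)))

variable (C : Cert)

/-- The list of the four generators' columns. -/
def Cert.genC : List (List ℕ) := [C.xC, C.zC, C.qC, C.tC]

/-- The packed fixed vector. -/
def Cert.vC : ℕ := packL (lin (listOf (oneVec C.a)))

/-- The element carrying the frame vector to the second one. -/
def Cert.sC : List ℕ := bif C.e == 1 then C.tC else C.qC

/-- The images of the generators for one candidate. -/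
def Cert.candC (e i b : ℕ) : List (List ℕ) :=
  [bif e == 0 then C.xC else C.xiC, C.zC, mulC C.qC (mulC (powC C.zC i) (powC C.tC b)), C.tC]

/-- All candidates but the identity violate a relation. -/
def Cert.candsOk : Bool :=
  (List.range 2).all fun e => (List.range 11).all fun i => (List.range 2).all fun b =>
    (e == 0 && i == 0 && eqC (powC C.tC b) idC) ||
      C.rels.any fun r => !eqC (r.cols (C.candC e i b)) idC

/-- The relations hold. -/
def Cert.relsOk : Bool := C.rels.all fun r => eqC (r.cols C.genC) idC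

/-- The elementary identities. -/
def Cert.baseOk : Bool :=
  (decide (C.e = 1 ∨ C.e = 6) && decide (C.a ≠ 1) && decide (C.a ≠ -1) && decide (C.a ≠ 0) &&
    decide (sqNorm (oneVec C.a) ≤ 80) && decide (sqNorm (pat C.w.1 C.w.2.1 C.w.2.2.1 C.w.2.2.2) ≤ 80)) &&
  (eqC C.xC (colsPerm shiftPerm) && eqC C.xiC (colsPerm ⇑shiftPerm.symm) &&
    eqC C.zC (colsPerm mulTwoPerm)) &&
  (applyC C.qC C.vC == 8 * colZ C.vC && applyC C.tC C.vC == 8 * colZ C.vC) &&
  (eqC (mulC C.zC C.xC) (mulC (powC C.xC 12) C.zC) &&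
    eqC (mulC C.qC C.zC) (mulC (powC C.zC C.k') C.qC) &&
    eqC (mulC C.tC C.tC) idC && eqC (mulC C.tC C.zC) (mulC C.zC C.tC) &&
    eqC (mulC C.sC (powC C.zC C.e)) (mulC C.zC C.sC)) &&
  applyC C.sC rootC == 8 * colZ (packL (lin (listOf (pat C.w.1 C.w.2.1 C.w.2.2.1 C.w.2.2.2)))) &&
  frameOk C.a C.w &&
  (eqC (powC C.qC C.m) (colsPerm (codeFun (C.gens.getD 2 0))) && C.gens.length == 3 &&
    (List.range 24).all (fun j => Nat.beq (PermCode.get (C.gens.getD 0 0) j)
        (Golay.bit (shiftPerm (Golay.pt j))) &&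
      Nat.beq (PermCode.get (C.gens.getD 1 0) j) (Golay.bit (mulTwoPerm (Golay.pt j)))))

/-- The codes of the permutations fix the extra point. -/
noncomputable def Cert.gensOk : Bool :=
  C.gens.all fun c => M24Elt.good c && Nat.beq (PermCode.get c 23) 23

/-- Whether the normaliser of the element of order 11 is covered. -/
def Cert.prim : Bool :=
  (List.range 11).all fun j => j == 0 || (List.range 10).any fun i => C.k' ^ i % 11 == j

/-- The orbit is long. -/
def Cert.orbOk : Bool :=
  C.orb.ok C.genC rootC && nodupB (rootC :: C.orb.codes) .leaf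

/-- Only index one is possible. -/
def Cert.indexOk (n : ℕ) : Bool :=
  (List.range (C.quot / n + 1)).all fun d =>
    d == 1 || !(C.quot % d == 0 && d % 23 == 1 && (!C.prim || d % 11 == 1))

variable {C}

/-- The pinning data, with a generated subgroup equal to the whole stabiliser. -/
theorem exists_pins {v : leechLattice} (hv : (v : GolayPt → ℤ) = oneVec C.a)
    {q : Co0} (hq : Valid q C.qC) {t : Co0} (ht : Valid t C.tC)
    (hbase : C.baseOk = true) (hrels : C.relsOk = true) (hcands : C.candsOk = true)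
    (hgens : C.gensOk = true) (hspan : Nat.card (PermCode.span 24 C.gens) = 10200960)
    (horb : C.orbOk = true) {n : ℕ} (hn : 0 < n) (hlen : n ≤ C.orb.codes.length + 1)
    (hcard : Nat.card (MulAction.stabilizer Co0 v) = C.quot * 10200960)
    (hsq : ¬ 23 ^ 2 ∣ C.quot * 10200960) (hsq' : ¬ 11 ^ 2 ∣ C.quot * 10200960)
    (hidx : C.indexOk n = true) :
    ∃ P : Pins (MulAction.stabilizer Co0 v), P.gen = ⊤ ∧
      (P.x : Co0) = shiftEl ∧ (P.z : Co0) = g11 ∧ (P.q : Co0) = q ∧ (P.t : Co0) = t := by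
  classical
  simp only [Cert.baseOk, Bool.and_eq_true, decide_eq_true_eq, beq_iff_eq, List.all_eq_true,
    List.mem_range, Nat.beq_eq] at hbase
  obtain ⟨⟨⟨⟨⟨⟨⟨⟨⟨⟨⟨he, ha1⟩, ha2⟩, ha0⟩, hvn⟩, hwn⟩, ⟨⟨hxC, hxiC⟩, hzC⟩⟩, ⟨hqv, htv⟩⟩,
    ⟨⟨⟨⟨hzx, hqz⟩, htt⟩, htz⟩, hse⟩⟩, hsw⟩, hframe⟩, ⟨⟨hqm, hlen3⟩, hcodes⟩⟩ := hbase
  rw [eqC_iff] at hxC hxiC hzC
  set G := MulAction.stabilizer Co0 v with hG
  have Vx : Valid shiftEl C.xC := hxC ▸ valid_monoEl shiftPerm_mem _ rfl
  have Vxi : Valid shiftEl⁻¹ C.xiC := by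
    rw [shiftEl, monoEl_inv, hxiC]
    exact valid_monoEl _ _ (by funext i; simp)
  have Vz : Valid g11 C.zC := hzC ▸ valid_monoEl mulTwoPerm_mem _ rfl
  have Vv : Stab.Rep (v : GolayPt → ℤ) C.vC := hv ▸ rep_packL hvn
  have hfix : ∀ {g : Co0} {A : List ℕ}, Valid g A → applyC A C.vC = 8 * colZ C.vC → g ∈ G := by
    intro g A hg hA
    refine MulAction.mem_stabilizer_iff.2 (Subtype.ext (rep_inj
      (rep_smul hg Vv (by rw [hv]; exact hvn) hA) Vv ?_ (by rw [hv]; exact hvn)))
    rw [sqNorm_smul, hv]; exact hvn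
  have hzG : g11 ∈ G := by
    refine MulAction.mem_stabilizer_iff.2 ((monoEl_fix_oneVec ha1 ha2 ha0 hv).2 ⟨?_, rfl⟩)
    rfl
  let x' : G := ⟨shiftEl, shiftEl_fix_oneVec hv⟩
  let z' : G := ⟨g11, hzG⟩
  let q' : G := ⟨q, hfix hq hqv⟩
  let t' : G := ⟨t, hfix ht htv⟩
  have Vl : List.Forall₂ Valid [shiftEl, g11, q, t] C.genC :=
    .cons Vx (.cons Vz (.cons hq (.cons ht .nil)))
  have hord23 : orderOf x' = 23 := by rw [Subgroup.orderOf_mk, orderOf_shiftEl]
  have hord11 : orderOf z' = 11 := by rw [Subgroup.orderOf_mk, orderOf_g11]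
  have hC : Subgroup.centralizer ({x'} : Set G) ≤ Subgroup.zpowers x' := by
    have hle : Subgroup.zpowers x' ≤ Subgroup.centralizer ({x'} : Set G) :=
      Subgroup.zpowers_le.2 (Subgroup.mem_centralizer_singleton_iff.2 rfl)
    have hdvd : Nat.card (Subgroup.centralizer ({x'} : Set G)) ∣ 23 :=
      card_centralizer_dvd (oneVec_ne_zero hv) (shiftEl_fix_oneVec hv)
    refine (Subgroup.eq_of_le_of_card_ge hle ?_).ge
    rw [Nat.card_zpowers, hord23]
    exact Nat.le_of_dvd (by norm_num) hdvd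
  have etz : t * g11 = g11 * t := eq_of_eqC (valid_mul ht Vz) (valid_mul Vz ht) htz
  have hs : ∃ s : Co0, Valid s C.sC ∧ s ∈ G ∧ (C.e = 1 → s = t) := by
    rcases he with h1 | h6
    · exact ⟨t, by simpa [Cert.sC, h1] using ht, t'.2, fun _ => rfl⟩
    · exact ⟨q, by simpa [Cert.sC, h6] using hq, q'.2, fun h => by omega⟩
  obtain ⟨s, Vs, hsG, hst⟩ := hs
  have esz : s * g11 ^ C.e = g11 * s :=
    eq_of_eqC (valid_mul Vs (valid_pow Vz _)) (valid_mul Vz Vs) hse
  have hsw' : ((s • eightVec none : leechLattice) : GolayPt → ℤ) =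
      pat C.w.1 C.w.2.1 C.w.2.2.1 C.w.2.2.2 := by
    rw [← e8L_none]
    refine rep_inj (rep_smul Vs (rep_packL ((sqNorm_e8 none).le.trans (by norm_num)))
      ((sqNorm_e8 none).le.trans (by norm_num)) hsw) (rep_packL hwn) ?_ hwn
    rw [sqNorm_smul]; exact (sqNorm_e8 none).le.trans (by norm_num)
  have hcz : ∀ g : G, g * z' = z' * g → ∃ i : ℕ, i < 11 ∧ ∃ b : ℕ, b < 2 ∧ g = z' ^ i * t' ^ b := by
    intro g hg
    have hgc : (g : Co0) * g11 = g11 * (g : Co0) := congrArg Subtype.val hg
    have h11 : g11 • eightVec none = eightVec none := by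
      refine Subtype.ext (funext fun i => ?_)
      rw [coe_g11_smul, coe_eightVec]
      rcases i with _ | x <;> simp [mulTwoPerm]
    rcases eight_cases hv hframe (g := (g : Co0)) g.2 (by rw [← mul_smul, ← hgc, mul_smul, h11]) with
      h8 | h8
    · obtain ⟨-, i, hi, e⟩ := stab_eight_cases ha1 ha2 ha0 hv (Or.inl rfl) g.2 h8
        (by rw [pow_one]; exact hgc)
      exact ⟨i, hi, 0, by norm_num, Subtype.ext (by simpa [z'] using e)⟩
    · have e8 : (g : Co0) • eightVec none = s • eightVec none := Subtype.ext (h8.trans hsw'.symm)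
      have hconj : s⁻¹ * g11 = g11 ^ C.e * s⁻¹ := by
        calc s⁻¹ * g11 = s⁻¹ * (g11 * s) * s⁻¹ := by group
          _ = g11 ^ C.e * s⁻¹ := by rw [← esz]; group
      have hgc' : (s⁻¹ * (g : Co0)) * g11 = g11 ^ C.e * (s⁻¹ * (g : Co0)) := by
        rw [mul_assoc, hgc, ← mul_assoc, hconj, mul_assoc]
      obtain ⟨h1, i, hi, e⟩ := stab_eight_cases ha1 ha2 ha0 hv he
        (g := s⁻¹ * (g : Co0)) (MulAction.mem_stabilizer_iff.1 (G.mul_mem (G.inv_mem hsG) g.2))
        (by rw [mul_smul, e8, inv_smul_smul]) hgc'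
      obtain rfl := hst h1
      refine ⟨i, hi, 1, by norm_num, Subtype.ext ?_⟩
      rw [inv_mul_eq_iff_eq_mul] at e
      show (g : Co0) = g11 ^ i * s ^ 1
      rw [pow_one, e]
      exact (Commute.pow_right etz i).eq
  have hqz' : q' * z' * q'⁻¹ = z' ^ C.k' := by
    rw [mul_inv_eq_iff_eq_mul]
    exact Subtype.ext (eq_of_eqC (valid_mul hq Vz) (valid_mul (valid_pow Vz _) hq) hqz)
  have hcand : ∀ e : ℕ, e < 2 → ∀ i : ℕ, i < 11 → ∀ b : ℕ, b < 2 → ∀ a : MulAut G,
      a x' = x' ^ (1 + 21 * e) → a z' = z' → a t' = t' → a q' = q' * (z' ^ i * t' ^ b) →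
        a x' = x' ∧ a q' = q' := by
    intro e he2 i hi b hb a hax haz hat haq
    have h := hcands
    simp only [Cert.candsOk, List.all_eq_true, List.mem_range] at h
    have h' := h e he2 i hi b hb
    simp only [Bool.or_eq_true, Bool.and_eq_true, beq_iff_eq, List.any_eq_true,
      Bool.not_eq_true'] at h'
    rcases h' with ⟨⟨rfl, rfl⟩, htb⟩ | ⟨r, hr, hne⟩
    · have htb' : t ^ b = 1 := eq_of_eqC (valid_pow ht b) valid_one htb
      refine ⟨by simpa using hax, haq.trans ?_⟩
      rw [pow_zero, one_mul, show t' ^ b = 1 from Subtype.ext htb', mul_one]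
    · exfalso
      have hrel : r.eval [x', z', q', t'] = 1 := by
        apply G.subtype_injective
        rw [Ex.map_eval, map_one]
        exact eq_of_eqC (Ex.valid Vl r) valid_one (List.all_eq_true.1 hrels r hr)
      have h2 := congrArg a hrel
      rw [← MulEquiv.coe_toMonoidHom, Ex.map_eval, map_one] at h2
      simp only [List.map_cons, List.map_nil, MulEquiv.coe_toMonoidHom, hax, haz, hat, haq] at h2
      have h3 := congrArg G.subtype h2
      rw [Ex.map_eval, map_one] at h3
      have Ve : Valid (shiftEl ^ (1 + 21 * e)) (bif e == 0 then C.xC else C.xiC) := by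
        interval_cases e
        · simpa using Vx
        · have : shiftEl ^ 22 = shiftEl⁻¹ := eq_inv_of_mul_eq_one_left (by
            rw [← pow_succ]; simpa [orderOf_shiftEl] using pow_orderOf_eq_one shiftEl)
          simpa [this] using Vxi
      refine ne_of_eqC (Ex.valid (L := C.candC e i b) ?_ r) valid_one hne h3
      exact .cons Ve (.cons Vz (.cons (valid_mul hq (valid_mul (valid_pow Vz i) (valid_pow ht b)))
        (.cons ht .nil)))
  let P : Pins G := ⟨x', z', q', t', C.k', hord23, hC, by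
      rw [mul_inv_eq_iff_eq_mul]
      exact Subtype.ext (eq_of_eqC (valid_mul Vz Vx) (valid_mul (valid_pow Vx 12) Vz) hzx),
    hord11, hqz', hcz, Subtype.ext (eq_of_eqC (valid_mul ht ht) valid_one htt),
    Subtype.ext etz, hcand⟩
  -- the stabiliser of the frame vector lies in the generated subgroup
  let φ := embFix ha1 ha2 ha0 hv
  have hφinj : Function.Injective φ := fun σ σ' h => by
    have h' : monoMap (⟨((σ : Equiv.Perm GolayPt))⁻¹, inv_mem (Golay.mem_fixPts.1 σ.2).1⟩,
        ⟨0, zero_mem _⟩) = monoMap (⟨((σ' : Equiv.Perm GolayPt))⁻¹,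
        inv_mem (Golay.mem_fixPts.1 σ'.2).1⟩, ⟨0, zero_mem _⟩) :=
      congrArg (Subtype.val : G → Co0) h
    exact Subtype.ext (inv_injective (congrArg (fun p : M24 × golayCode =>
      (p.1 : Equiv.Perm GolayPt)) (monoMap_injective h')))
  have hφle : φ.range ≤ P.gen := by
    let U : Subgroup (Equiv.Perm GolayPt) := (P.gen.comap φ).map (Golay.fixPts M24 [none]).subtype
    have hgc : ∀ c ∈ C.gens, PermCode.Ok 24 c ∧ M24Elt.pm c ∈ Golay.fixPts M24 [none] := fun c hc => by
      have h1 := List.all_eq_true.1 hgens c hc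
      simp only [Bool.and_eq_true] at h1
      refine ⟨M24Elt.good_ok h1.1, Golay.mem_fixPts.2 ⟨M24Elt.pm_mem h1.1, fun p hp => ?_⟩⟩
      rw [List.mem_singleton] at hp
      subst hp
      apply Golay.bit_injective
      rw [M24Elt.bit_pm (M24Elt.good_ok h1.1)]
      exact Nat.eq_of_beq_eq_true h1.2
    have hU : ∀ c ∈ C.gens, M24Elt.pm c ∈ U := by
      intro c hc
      refine ⟨⟨_, (hgc c hc).2⟩, ?_, rfl⟩
      obtain ⟨k, hk, rfl⟩ := List.mem_iff_getElem.1 hc
      have hok := (hgc _ hc).1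
      have hinv : (φ ⟨_, (hgc _ hc).2⟩ : Co0) =
          (monoEl (M24Elt.pm (C.gens[k])) (Golay.mem_fixPts.1 (hgc _ hc).2).1 0 (zero_mem _))⁻¹ := by
        rw [monoEl_inv]
        show monoEl (M24Elt.pm (C.gens[k]))⁻¹ (inv_mem (Golay.mem_fixPts.1 (hgc _ hc).2).1) 0
          (zero_mem _) = _
        exact monoEl_congr rfl (by funext i; simp)
      have key : ∀ y ∈ P.gen, (y : Co0) =
          monoEl (M24Elt.pm (C.gens[k])) (Golay.mem_fixPts.1 (hgc _ hc).2).1 0 (zero_mem _) →
          φ ⟨_, (hgc _ hc).2⟩ ∈ P.gen := by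
        intro y hy e
        have : φ ⟨_, (hgc _ hc).2⟩ = y⁻¹ := Subtype.ext (by rw [hinv, ← e]; rfl)
        rw [this]; exact inv_mem hy
      have hperm : ∀ (σ : Equiv.Perm GolayPt),
          (∀ j < 24, PermCode.get (C.gens[k]) j = Golay.bit (σ (Golay.pt j))) →
          M24Elt.pm (C.gens[k]) = σ := fun σ h => Equiv.ext fun p => Golay.bit_injective (by
        rw [M24Elt.bit_pm hok, h _ (Golay.bit_lt p), Golay.pt_bit])
      have hk3 : k < 3 := hlen3 ▸ hk
      interval_cases k
      · refine key x' P.x_mem ?_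
        refine monoEl_congr (ha := shiftPerm_mem) (hc := zero_mem _) (hperm _ fun j hj => ?_).symm rfl
        have := (hcodes j hj).1; rwa [List.getD_eq_getElem _ _ hk] at this
      · refine key z' P.z_mem ?_
        refine monoEl_congr (ha := mulTwoPerm_mem) (hc := zero_mem _) (hperm _ fun j hj => ?_).symm rfl
        have := (hcodes j hj).2; rwa [List.getD_eq_getElem _ _ hk] at this
      · refine key (q' ^ C.m) (pow_mem P.q_mem _) ?_
        refine eq_of_eqC ?_ (valid_monoEl _ _ rfl) ?_ (A := powC C.qC C.m)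
        · exact valid_pow hq _
        · rw [← codeFun_eq hok]
          rwa [List.getD_eq_getElem _ _ hk] at hqm
    have hall : Golay.fixPts M24 [none] ≤ U := by
      have h1 : M24Elt.spanPts C.gens = Golay.fixPts M24 [none] :=
        Subgroup.eq_of_le_of_card_ge (M24Elt.spanPts_le fun c hc => (hgc c hc).2)
          (by rw [M24Elt.card_spanPts, hspan, Golay.card_fix1])
      exact h1 ▸ M24Elt.spanPts_le hU
    rintro _ ⟨σ, rfl⟩
    obtain ⟨σ', hσ', e⟩ := hall σ.2
    exact Subtype.ext e ▸ hσ'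
  have hφcard : Nat.card φ.range = 10200960 := by
    rw [← Nat.card_congr (MonoidHom.ofInjective hφinj).toEquiv, Golay.card_fix1]
  -- the orbit of the frame vector
  let u := eightVec none
  let H : Subgroup Co0 := P.gen.map G.subtype
  have hfixu : ∀ y ∈ φ.range, (y : Co0) • u = u := by
    rintro _ ⟨σ, rfl⟩
    refine Subtype.ext (funext fun i => ?_)
    show ((monoEl (σ : Equiv.Perm GolayPt)⁻¹ (inv_mem (Golay.mem_fixPts.1 σ.2).1) 0 (zero_mem _) •
      eightVec none : leechLattice) : GolayPt → ℤ) i = _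
    rw [coe_monoEl_smul]
    simp only [monoFun, Pi.zero_apply, zero_ne_one, if_false, u, coe_eightVec]
    have h0 := (Golay.mem_fixPts.1 σ.2).2 none (List.mem_singleton_self _)
    by_cases hi : i = none
    · subst hi
      rw [Equiv.Perm.inv_eq_iff_eq.2 h0.symm]
    · rw [Pi.single_eq_of_ne hi, Pi.single_eq_of_ne fun e => hi (by
        rw [Equiv.Perm.inv_eq_iff_eq, h0] at e; exact e)]
  have hstab : φ.range.map G.subtype ≤ H ⊓ MulAction.stabilizer Co0 u := by
    rintro _ ⟨y, hy, rfl⟩
    exact ⟨⟨y, hφle hy, rfl⟩, hfixu y hy⟩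
  have horbit : n ≤ (MulAction.orbit H u).ncard := by
    simp only [Cert.orbOk, Bool.and_eq_true] at horb
    have hrep := OT.sound (H := H) Vl (by
      intro g hg
      simp only [List.mem_cons, List.not_mem_nil, or_false] at hg
      rcases hg with rfl | rfl | rfl | rfl
      exacts [⟨x', P.x_mem, rfl⟩, ⟨z', P.z_mem, rfl⟩, ⟨q', P.q_mem, rfl⟩, ⟨t', P.t_mem, rfl⟩])
      (u := e8L none) ((sqNorm_e8 none).le.trans (by norm_num)) C.orb rootC horb.1
      ⟨1, one_mem _, by rw [one_smul]; exact rep_packL ((sqNorm_e8 none).le.trans (by norm_num))⟩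
    have hall : ∀ c ∈ rootC :: C.orb.codes, ∃ p ∈ MulAction.orbit H u,
        Stab.Rep ((p : leechLattice) : GolayPt → ℤ) c := by
      intro c hc
      rcases List.mem_cons.1 hc with rfl | hc
      · exact ⟨u, MulAction.mem_orbit_self _, by
          rw [show u = e8L none from e8L_none.symm]
          exact rep_packL ((sqNorm_e8 none).le.trans (by norm_num))⟩
      · obtain ⟨h, hh, hr⟩ := hrep c hc
        exact ⟨h • u, ⟨⟨h, hh⟩, rfl⟩, by rwa [show u = e8L none from e8L_none.symm]⟩
    choose f hf hfr using hall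
    let L := rootC :: C.orb.codes
    let F : Fin L.length → leechLattice := fun i => f L[i] (List.getElem_mem i.2)
    have hF : Function.Injective F := fun i j hij => by
      have e1 := hfr L[i] (List.getElem_mem i.2)
      rw [show f L[i] (List.getElem_mem i.2) = F i from rfl, hij] at e1
      have e2 := e1.symm.trans (hfr L[j] (List.getElem_mem j.2))
      simp only [colZ] at e2
      have e3 : L[(i : ℕ)] = L[(j : ℕ)] := by simp only [Fin.getElem_fin] at e2; omega
      exact Fin.ext ((nodupB_spec _ _ horb.2).1.getElem_inj_iff.1 e3)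
    have hfin : (MulAction.orbit H u).Finite := Set.finite_range _
    have := Set.ncard_le_ncard (Set.range_subset_iff.2 fun i => hf _ (List.getElem_mem i.2) :
      Set.range F ⊆ MulAction.orbit H u) hfin
    rw [Set.ncard_range_of_injective hF, Nat.card_fin] at this
    exact hlen.trans (by simpa [L] using this)
  have hbig : n * 10200960 ≤ Nat.card P.gen := by
    have h1 := Subgroup.card_mul_index (MulAction.stabilizer H u)
    have h2 : Nat.card H = Nat.card P.gen := Subgroup.card_map_of_injective G.subtype_injective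
    have h3 : (φ.range.map G.subtype).subgroupOf H ≤ MulAction.stabilizer H u := fun y hy =>
      (hstab hy).2
    have h4 : Nat.card ((φ.range.map G.subtype).subgroupOf H) = 10200960 := by
      rw [Nat.card_congr (Subgroup.subgroupOfEquivOfLe fun y hy => (hstab hy).1).toEquiv,
        Subgroup.card_map_of_injective G.subtype_injective, hφcard]
    have h5 := Subgroup.card_le_of_le h3
    rw [h4] at h5
    rw [← h2, ← h1, MulAction.index_stabilizer, mul_comm n]
    exact Nat.mul_le_mul h5 horbit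
  -- arithmetic
  haveI : Fact (Nat.Prime 23) := ⟨by norm_num⟩
  haveI : Fact (Nat.Prime 11) := ⟨by norm_num⟩
  have hd : P.gen.index = 1 := by
    have hm := Subgroup.card_mul_index P.gen
    obtain ⟨r, hr⟩ := hφcard ▸ Subgroup.card_dvd_of_le hφle
    rw [hcard, hr, mul_assoc, mul_comm C.quot] at hm
    have hm' : r * P.gen.index = C.quot := Nat.eq_of_mul_eq_mul_left (by norm_num) hm
    have hnr : n ≤ r := Nat.le_of_mul_le_mul_right (by rw [hr, mul_comm _ r] at hbig; exact hbig)
      (by norm_num)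
    have hle : P.gen.index ≤ C.quot / n := by
      rw [Nat.le_div_iff_mul_le hn, mul_comm, ← hm']
      exact Nat.mul_le_mul_right _ hnr
    have h23 : P.gen.index % 23 = 1 :=
      index_mod_eq_one hord23 (by rw [hcard]; exact hsq) P.x_mem P.mem_of_conj_mem
    have hdvd : C.quot % P.gen.index = 0 := by rw [← hm', Nat.mul_mod_left]
    have hi := List.all_eq_true.1 hidx P.gen.index (List.mem_range.2 (by omega))
    simp only [hdvd, h23, Bool.or_eq_true, Bool.not_eq_true', beq_iff_eq, Bool.and_eq_false_iff,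
      Bool.or_eq_false_iff, bne_eq_false_iff_eq, BEq.rfl, Bool.true_eq_false, false_or,
      beq_eq_false_iff_ne, Bool.not_eq_false'] at hi
    rcases hi with hi | ⟨hp, hi⟩
    · exact hi
    · refine absurd (index_mod_eq_one hord11 (by rw [hcard]; exact hsq') P.z_mem
        (P.mem_of_conj_mem_z fun j hj => ?_)) hi
      have hp' := List.all_eq_true.1 hp j.val (List.mem_range.2 j.2)
      simp only [Bool.or_eq_true, beq_iff_eq, hj, false_or, List.any_eq_true, List.mem_range] at hp'
      obtain ⟨i, hi, e⟩ := hp'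
      exact ⟨⟨i, hi⟩, e⟩
  exact ⟨P, Subgroup.index_eq_one.1 hd, rfl, rfl, rfl, rfl⟩

/-- The main theorem. -/
theorem card_out_stab {v : leechLattice} (hv : (v : GolayPt → ℤ) = oneVec C.a)
    (hq : ∃ q : Co0, Valid q C.qC) (ht : ∃ t : Co0, Valid t C.tC)
    (hbase : C.baseOk = true) (hrels : C.relsOk = true) (hcands : C.candsOk = true)
    (hgens : C.gensOk = true) (hspan : Nat.card (PermCode.span 24 C.gens) = 10200960)
    (horb : C.orbOk = true) {n : ℕ} (hn : 0 < n) (hlen : n ≤ C.orb.codes.length + 1)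
    (hcard : Nat.card (MulAction.stabilizer Co0 v) = C.quot * 10200960)
    (hsq : ¬ 23 ^ 2 ∣ C.quot * 10200960) (hsq' : ¬ 11 ^ 2 ∣ C.quot * 10200960)
    (hidx : C.indexOk n = true) :
    Nat.card (Cfsg.Out (MulAction.stabilizer Co0 v)) = 1 := by
  obtain ⟨q, hq⟩ := hq
  obtain ⟨t, ht⟩ := ht
  obtain ⟨P, hgen, -⟩ := exists_pins hv hq ht hbase hrels hcands hgens hspan horb hn hlen hcard hsq
    hsq' hidx
  exact P.card_out (by rw [hcard]; exact hsq) hgen

end CfsgLib.Leech.Aut
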