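import Cfsg.Agent.Lib.Leech.Aut.Co1Data
import Cfsg.Agent.Lib.Leech.Aut.Co3Data
import Cfsg.Agent.Lib.Leech.Aut.Engine
import Cfsg.Agent.Lib.Leech.Aut.Act

/-!
The centraliser of the element of order 11 in Co0 up to sign, and the checks for rigidity of Co1.
-/

set_option autoImplicit false
set_option maxRecDepth 100000

namespace CfsgLib.Leech.Aut.CoOne

open Cfsg CfsgLib CfsgLib.Leech.Stab CfsgLib.Comp

/-- Columns of a sign change. -/
def colsSign (c : GolayPt → ZMod 2) : List ℕ :=
  (List.range 24).map fun j => packL (lin (listOf (monoFun 1 c (e8 (Golay.pt j)))))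

theorem valid_signEl {c : GolayPt → ZMod 2} (hc : c ∈ golayCode) :
    Valid (monoEl 1 (one_mem _) c hc) (colsSign c) := by
  refine valid_iff.2 ⟨by simp [colsSign], fun i h => ?_⟩
  have e : ((monoEl 1 (one_mem _) c hc • e8L (Golay.pt i) : leechLattice) : GolayPt → ℤ) =
      monoFun 1 c (e8 (Golay.pt i)) := by rw [coe_monoEl_smul]; rfl
  simp only [colsSign, List.getElem_map, List.getElem_range]
  rw [← e]
  exact rep_packL (by rw [sqNorm_smul]; simp [e8L, sqNorm_e8])

theorem qrWord_mem (t : ZMod 23) : qrWord t ∈ golayCode := Submodule.subset_span (Or.inl ⟨t, rfl⟩)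

/-- The sign change commuting with the element of order 11. -/
def deltaEl : Co0 := monoEl 1 (one_mem _) (qrWord 0) (qrWord_mem 0)

/-- Columns of negation, computed. -/
def colsNeg : List ℕ := (List.range 24).map fun j => packL (lin (listOf (-(e8 (Golay.pt j)))))

theorem valid_negEl : Valid negEl colsNeg := by
  refine valid_iff.2 ⟨by simp [colsNeg], fun i h => ?_⟩
  simp only [colsNeg, List.getElem_map, List.getElem_range, coe_negEl_smul]
  exact rep_packL (by rw [sqNorm_neg]; exact (sqNorm_e8 _).le.trans (by norm_num))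

/-- The six elements of the complement in the centraliser of the element of order 11. -/
def sixC (k : ℕ) : List ℕ := mulC (powC dC (k / 3)) (powC fC (k % 3))

/-- The six elements moving the frame vector to the fixed ones. -/
def moveC (j : ℕ) : List ℕ := bif Nat.blt j 3 then powC fC j else mulC qC (powC fC (j - 3))

/-- The exponent of a mover. -/
def moveExp (j : ℕ) : ℕ := bif Nat.blt j 3 then 1 else 6

/-- Equality up to sign. -/
def eqP (A B : List ℕ) : Bool := eqC A B || eqC A (mulC negC B)

/-- The elementary identities. -/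
def baseOk : Bool :=
  (eqC xC (colsPerm shiftPerm) && eqC xiC (colsPerm ⇑shiftPerm.symm) && eqC zC (colsPerm mulTwoPerm) &&
    eqC qC (colsPerm (codeFun (m24Gens.getD 2 0))) && eqC dC (colsSign (qrWord 0)) && eqC negC colsNeg) &&
  (eqC (mulC zC xC) (mulC (powC xC 12) zC) && eqC (mulC qC zC) (mulC (powC zC 2) qC) &&
    eqC (mulC fC zC) (mulC zC fC) && eqC (mulC dC zC) (mulC zC dC) &&
    eqC (mulC qC qC) CoThree.cert.qC && eqC (mulC CoThree.cert.tC zC) (mulC zC CoThree.cert.tC)) &&
  (List.range 6).all fun j => eqC (mulC (moveC j) (powC zC (moveExp j))) (mulC zC (moveC j))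

/-- The frame vectors fixed by the element of order 11. -/
def frameOk : Bool :=
  (List.range 17).all fun i => (List.range 17).all fun j => (List.range 5).all fun k =>
    (List.range 5).all fun l =>
      let x : ℤ := (i : ℤ) - 8; let y : ℤ := (j : ℤ) - 8; let c : ℤ := (k : ℤ) - 2; let d : ℤ := (l : ℤ) - 2
      !(x ^ 2 + y ^ 2 + 11 * c ^ 2 + 11 * d ^ 2 == 64) || (!leechB (pat x y c d) ||
        (List.range 6).any fun m =>
          applyC (moveC m) rootC == 8 * colZ (packL (lin (listOf (pat x y c d)))) ||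
            applyC (moveC m) rootC == 8 * colZ (packL (lin (listOf (pat (-x) (-y) (-c) (-d))))))

/-- The products landing among the six. -/
def sixOk : Bool :=
  (List.range 3).all fun b => (List.range 2).all fun a =>
    (List.range 6).any fun k => eqP (mulC (powC fC b) (powC dC a)) (sixC k)

/-- The sign words fixed by the element of order 11. -/
def signOk : Bool :=
  (List.range 2).all fun a => (List.range 2).all fun b => (List.range 2).all fun d =>
    let c : GolayPt → ZMod 2 := fun i => ![0, (a : ZMod 2), (b : ZMod 2), (d : ZMod 2)] (cls i)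
    !Golay.memb (Golay.ofWord c) || (List.range 24).all (fun j => c (Golay.pt j) == 0) ||
      (List.range 24).all (fun j => c (Golay.pt j) == qrWord 0 (Golay.pt j))

/-- The relations hold up to sign. -/
def relsOk : Bool :=
  relsA.all (fun r => eqP (r.cols [xC, zC, dC, fC]) idC) &&
    relsB.all fun r => eqP (r.cols [xC, zC, dC, fC, qC]) idC

/-- The action of one of the six elements. -/
def sixAct (k : ℕ) : ℕ → ℕ := stepC (sixTab.getD k idC)

/-- The tables of the six elements are correct. -/
def sixTabOk : Bool := (List.range 6).all fun k => eqC (sixTab.getD k idC) (sixC k)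

/-- The first stage of candidates. -/
def candsA : Bool :=
  (List.range 2).all fun e => (List.range 6).all fun k => (List.range 6).all fun l =>
    (e == 0 && k == 3 && l == 1) ||
      relsA.any fun r => movesB (r.act [stepC (bif e == 0 then xC else xiC), stepC zC, sixAct k, sixAct l])

/-- The second stage of candidates. -/
def candsB : Bool :=
  (List.range 11).all fun i => (List.range 6).all fun k =>
    (i == 0 && k == 0) ||
      relsB.any fun r => movesB (r.act [stepC xC, stepC zC, stepC dC, stepC fC,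
        fun n => strictN (stepC qC) (strictN (iterN (stepC zC) i) (sixAct k n))])

/-- The permutations generating M24. -/
noncomputable def gensOk : Bool :=
  m24Gens.all M24Elt.good && m24Gens.length == 3 &&
    (List.range 24).all (fun j => Nat.beq (PermCode.get (m24Gens.getD 0 0) j)
        (Golay.bit (shiftPerm (Golay.pt j))) &&
      Nat.beq (PermCode.get (m24Gens.getD 1 0) j) (Golay.bit (mulTwoPerm (Golay.pt j))))

theorem base_ok : baseOk = true := by decide +kernel

theorem frame_ok : frameOk = true := by decide +kernel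

theorem six_ok : sixOk = true := by decide +kernel

theorem sign_ok : signOk = true := by decide +kernel

theorem rels_ok : relsOk = true := by decide +kernel

theorem gens_ok : gensOk = true := by decide +kernel

theorem slp_ok : slpB prog = true := by decide +kernel

theorem f_exists : ∃ g : Co0, Valid g fC := by
  obtain ⟨g, hg⟩ := slp_sound slp_ok fIdx (by decide +kernel)
  exact ⟨g, eqC_iff.1 (show eqC (colsAt prog fIdx) fC = true by decide +kernel) ▸ hg⟩

theorem base_facts :
    xC = colsPerm shiftPerm ∧ xiC = colsPerm ⇑shiftPerm.symm ∧ zC = colsPerm mulTwoPerm ∧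
    qC = colsPerm (codeFun (m24Gens.getD 2 0)) ∧ dC = colsSign (qrWord 0) ∧ negC = colsNeg := by
  have h := base_ok
  simp only [baseOk, Bool.and_eq_true, eqC_iff] at h
  exact ⟨h.1.1.1.1.1.1.1, h.1.1.1.1.1.1.2, h.1.1.1.1.1.2, h.1.1.1.1.2, h.1.1.1.2, h.1.1.2⟩

theorem q_mem : M24Elt.pm (m24Gens.getD 2 0) ∈ M24 := by
  have h := gens_ok
  simp only [gensOk, Bool.and_eq_true, List.all_eq_true, beq_iff_eq] at h
  have hl : 2 < m24Gens.length := by omega
  rw [List.getD_eq_getElem _ _ hl]
  exact M24Elt.pm_mem (h.1.1 _ (List.getElem_mem hl))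

/-- The monomial element normalising the element of order 11. -/
noncomputable def qEl : Co0 := monoEl (M24Elt.pm (m24Gens.getD 2 0)) q_mem 0 (zero_mem _)

/-- The element of order three. -/
noncomputable def fEl : Co0 := f_exists.choose

theorem valid_f : Valid fEl fC := f_exists.choose_spec

theorem valid_x : Valid shiftEl xC := base_facts.1 ▸ valid_monoEl shiftPerm_mem _ rfl

theorem valid_xi : Valid shiftEl⁻¹ xiC := by
  rw [shiftEl, monoEl_inv, base_facts.2.1]
  exact valid_monoEl _ _ (by funext i; simp)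

theorem valid_z : Valid g11 zC := base_facts.2.2.1 ▸ valid_monoEl mulTwoPerm_mem _ rfl

theorem valid_q : Valid qEl qC := by
  have h := gens_ok
  simp only [gensOk, Bool.and_eq_true, List.all_eq_true, beq_iff_eq] at h
  have hl : 2 < m24Gens.length := by omega
  have hok : PermCode.Ok 24 (m24Gens.getD 2 0) := by
    rw [List.getD_eq_getElem _ _ hl]; exact M24Elt.good_ok (h.1.1 _ (List.getElem_mem hl))
  rw [base_facts.2.2.2.1, codeFun_eq hok]
  exact valid_monoEl _ _ rfl

theorem valid_d : Valid deltaEl dC := base_facts.2.2.2.2.1 ▸ valid_signEl _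

theorem valid_neg : Valid negEl negC := base_facts.2.2.2.2.2 ▸ valid_negEl

theorem center_cases {g : Co0} (h : g ∈ Subgroup.center Co0) : g = 1 ∨ g = negEl := by
  have : g ∈ ({1, negEl} : Set Co0) := by rw [← center_eq]; exact h
  simpa using this

theorem negEl_center : negEl ∈ Subgroup.center Co0 := by
  have : negEl ∈ (Subgroup.center Co0 : Set Co0) := by rw [center_eq]; simp
  exact this

/-- The projection to Co1. -/
abbrev proj : Co0 →* Co0 ⧸ Subgroup.center Co0 := QuotientGroup.mk' (Subgroup.center Co0)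

theorem proj_negEl : proj negEl = 1 := (QuotientGroup.eq_one_iff _).2 negEl_center

theorem proj_eq_cases {g h : Co0} (e : proj g = proj h) : g = h ∨ g = negEl * h := by
  rw [QuotientGroup.mk'_apply, QuotientGroup.mk'_apply, QuotientGroup.eq] at e
  rcases center_cases e with e | e
  · exact Or.inl (inv_mul_eq_one.1 e)
  · right
    rw [inv_mul_eq_iff_eq_mul] at e
    rw [e, negEl_comm g, ← mul_assoc, sq_negEl, one_mul]

theorem proj_of_eqP {g h : Co0} {A B : List ℕ} (hg : Valid g A) (hh : Valid h B) (e : eqP A B = true) :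
    proj g = proj h := by
  rcases Bool.or_eq_true_iff.1 e with e | e
  · rw [eq_of_eqC hg hh e]
  · rw [eq_of_eqC hg (valid_mul valid_neg hh) e, map_mul, proj_negEl, one_mul]

theorem ne_of_eqP {g h : Co0} {A B : List ℕ} (hg : Valid g A) (hh : Valid h B) (e : eqP A B = false) :
    proj g ≠ proj h := by
  intro he
  rw [eqP, Bool.or_eq_false_iff] at e
  rcases proj_eq_cases he with h1 | h1
  · exact ne_of_eqC hg hh e.1 h1
  · exact ne_of_eqC hg (valid_mul valid_neg hh) e.2 h1

/-- The six elements. -/
noncomputable def sixEl (k : ℕ) : Co0 := deltaEl ^ (k / 3) * fEl ^ (k % 3)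

theorem valid_six (k : ℕ) : Valid (sixEl k) (sixC k) :=
  valid_mul (valid_pow valid_d _) (valid_pow valid_f _)

theorem sixTab_ok : sixTabOk = true := by decide +kernel

theorem follows_six {k : ℕ} (hk : k < 6) : Follows (sixEl k) (sixAct k) := by
  have h := List.all_eq_true.1 sixTab_ok k (List.mem_range.2 hk)
  exact follows_stepC (eqC_iff.1 h ▸ valid_six k)

/-- The six movers. -/
noncomputable def moveEl (j : ℕ) : Co0 := bif Nat.blt j 3 then fEl ^ j else qEl * fEl ^ (j - 3)

theorem valid_move (j : ℕ) : Valid (moveEl j) (moveC j) := by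
  unfold moveEl moveC
  cases Nat.blt j 3
  · exact valid_mul valid_q (valid_pow valid_f _)
  · exact valid_pow valid_f _

theorem identities :
    g11 * deltaEl = deltaEl * g11 ∧ g11 * fEl = fEl * g11 ∧ qEl * g11 = g11 ^ 2 * qEl ∧
    shiftEl ^ 12 * g11 = g11 * shiftEl ∧
    ∀ j < 6, moveEl j * g11 ^ moveExp j = g11 * moveEl j := by
  have h := base_ok
  simp only [baseOk, Bool.and_eq_true, List.all_eq_true, List.mem_range] at h
  obtain ⟨⟨-, ⟨⟨⟨⟨h1, h2⟩, h3⟩, h4⟩, -⟩, -⟩, hm⟩ := h
  exact ⟨(eq_of_eqC (valid_mul valid_d valid_z) (valid_mul valid_z valid_d) h4).symm,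
    (eq_of_eqC (valid_mul valid_f valid_z) (valid_mul valid_z valid_f) h3).symm,
    eq_of_eqC (valid_mul valid_q valid_z) (valid_mul (valid_pow valid_z _) valid_q) h2,
    (eq_of_eqC (valid_mul valid_z valid_x) (valid_mul (valid_pow valid_x _) valid_z) h1).symm,
    fun j hj => eq_of_eqC (valid_mul (valid_move j) (valid_pow valid_z _))
      (valid_mul valid_z (valid_move j)) (hm j hj)⟩

/-- Elements fixing the frame vector and multiplying the exponent of the element of order 11. -/
theorem stab_cases {e : ℕ} (he : e = 1 ∨ e = 6) {g : Co0} (h8 : g • eightVec none = eightVec none)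
    (hc : g * g11 = g11 ^ e * g) :
    e = 1 ∧ ∃ i : ℕ, i < 11 ∧ ∃ a : ℕ, a < 2 ∧ g = g11 ^ i * deltaEl ^ a := by
  obtain ⟨τ, hτ, c, hcg, hτ0, hc0, rfl⟩ :=
    mem_stabilizer_eightVec.1 (MulAction.mem_stabilizer_iff.2 h8)
  rw [g11_pow, g11, monoEl_mul, monoEl_mul] at hc
  have hinj := monoMap_injective
      (a₁ := (⟨mulTwoPerm * τ, mul_mem mulTwoPerm_mem hτ⟩, ⟨c + (0 : GolayPt → ZMod 2) ∘ τ,
        golayCode.add_mem hcg (mem_supports_comp hτ (zero_mem _))⟩))
      (a₂ := (⟨τ * mulTwoPerm ^ e, mul_mem hτ (pow_mem mulTwoPerm_mem e)⟩,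
        ⟨0 + c ∘ ⇑(mulTwoPerm ^ e),
          golayCode.add_mem (zero_mem _) (mem_supports_comp (pow_mem mulTwoPerm_mem e) hcg)⟩)) hc
  simp only [Prod.mk.injEq, Subtype.mk.injEq] at hinj
  obtain ⟨hperm, hsign⟩ := hinj
  have hok : candOk e = true := by rcases he with rfl | rfl; exacts [candOk_one, candOk_six]
  obtain ⟨rfl, i, hi, rfl⟩ := tau_cases he hok hτ hτ0 hperm
  refine ⟨rfl, i, hi, ?_⟩
  have hz : ∀ p, c (mulTwoPerm p) = c p := fun p => by
    have := congrFun hsign p
    simpa using this.symm
  have hzp : ∀ (n : ℕ) p, c ((mulTwoPerm ^ n) p) = c p := fun n => by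
    induction n with
    | zero => simp
    | succ n ih => intro p; rw [pow_succ', Equiv.Perm.mul_apply, hz, ih]
  have hpat : c = fun p => ![0, c (some 0), c (some 1), c (some 22)] (cls p) := by
    funext p
    have key : ∀ r, cls r = cls p → c p = c r := fun r hr => by
      obtain ⟨k, -, hk⟩ := orbit_cls r p hr
      rw [← hk, hzp]
    have hk4 : ∀ k : Fin 4, k = 0 ∨ k = 1 ∨ k = 2 ∨ k = 3 := by decide
    rcases hk4 (cls p) with e | e | e | e <;> rw [e]
    · exact (key none (by rw [e]; decide +kernel)).trans hc0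
    · exact key (some 0) (by rw [e]; decide +kernel)
    · exact key (some 1) (by rw [e]; decide +kernel)
    · exact key (some 22) (by rw [e]; decide +kernel)
  have h := sign_ok
  simp only [signOk, List.all_eq_true, List.mem_range, Bool.or_eq_true, beq_iff_eq] at h
  have h' := h (c (some 0)).val (ZMod.val_lt _) (c (some 1)).val (ZMod.val_lt _) (c (some 22)).val
    (ZMod.val_lt _)
  simp only [ZMod.natCast_zmod_val, ← hpat] at h'
  have hmemb : Golay.memb (Golay.ofWord c) = true := by
    refine (Golay.toWord_mem_iff (Golay.bitsOf_lt _ _)).1 ?_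
    rw [← Golay.ofWord, Golay.toWord_ofWord]
    exact hcg
  simp only [hmemb, Bool.not_true, Bool.false_eq_true, false_or] at h'
  rcases h' with h' | h'
  · refine ⟨0, by norm_num, ?_⟩
    rw [pow_zero, mul_one, g11_pow]
    refine monoEl_congr rfl (funext fun p => ?_)
    rw [congrFun hpat]
    simpa [Golay.pt_bit] using h' (Golay.bit p) (Golay.bit_lt p)
  · refine ⟨1, by norm_num, ?_⟩
    rw [pow_one, g11_pow, deltaEl, monoEl_mul]
    refine monoEl_congr (one_mul _).symm (funext fun p => ?_)
    simp only [Pi.add_apply, Pi.zero_apply, zero_add, Function.comp_apply]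
    rw [← hzp i p]
    rw [congrFun hpat]
    simpa [Golay.pt_bit] using h' (Golay.bit ((mulTwoPerm ^ i) p)) (Golay.bit_lt _)

/-- The centraliser of the element of order 11 up to sign. -/
theorem centralizer_cases {g : Co0} (hg : g * g11 = g11 * g) :
    ∃ i : ℕ, i < 11 ∧ ∃ k : ℕ, k < 6 ∧ proj g = proj (g11 ^ i * sixEl k) := by
  obtain ⟨hd, hf, -, -, hmove⟩ := identities
  have h11 : g11 • eightVec none = eightVec none := by
    refine Subtype.ext (funext fun i => ?_)
    rw [coe_g11_smul, coe_eightVec]
    rcases i with _ | x <;> simp [mulTwoPerm]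
  obtain ⟨x, y, c, d, hu⟩ := exists_pat_of_fixed (u := g • eightVec none)
    (by rw [← mul_smul, ← hg, mul_smul, h11])
  have hn := sqNorm_smul g (eightVec none)
  rw [hu, sqNorm_pat, sqNorm_eightVec] at hn
  have bx : -8 ≤ x ∧ x ≤ 8 := by constructor <;> nlinarith [sq_nonneg y, sq_nonneg c, sq_nonneg d]
  have by' : -8 ≤ y ∧ y ≤ 8 := by constructor <;> nlinarith [sq_nonneg x, sq_nonneg c, sq_nonneg d]
  have bc : -2 ≤ c ∧ c ≤ 2 := by constructor <;> nlinarith [sq_nonneg x, sq_nonneg y, sq_nonneg d]
  have bd : -2 ≤ d ∧ d ≤ 2 := by constructor <;> nlinarith [sq_nonneg x, sq_nonneg y, sq_nonneg c]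
  have h := frame_ok
  simp only [frameOk, List.all_eq_true, List.mem_range] at h
  have h' := h (x + 8).toNat (by omega) (y + 8).toNat (by omega) (c + 2).toNat (by omega)
    (d + 2).toNat (by omega)
  rw [show ((x + 8).toNat : ℤ) - 8 = x by omega, show ((y + 8).toNat : ℤ) - 8 = y by omega,
    show ((c + 2).toNat : ℤ) - 2 = c by omega, show ((d + 2).toNat : ℤ) - 2 = d by omega] at h'
  have hmem : leechB (pat x y c d) = true := leechB_of_mem (hu ▸ Subtype.coe_prop _)
  simp only [hn, hmem, BEq.rfl, Bool.not_true, Bool.false_or, List.any_eq_true, List.mem_range,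
    Bool.or_eq_true, beq_iff_eq] at h'
  obtain ⟨m, hm, hm'⟩ := h'
  have hpn : sqNorm (pat x y c d) ≤ 80 := by rw [sqNorm_pat, hn]; norm_num
  have hneg : pat (-x) (-y) (-c) (-d) = -pat x y c d := by
    funext p
    unfold pat
    simp only [Pi.neg_apply]
    generalize cls p = k
    fin_cases k <;> rfl
  have hroot : Stab.Rep ((eightVec none : leechLattice) : GolayPt → ℤ) rootC := by
    rw [← e8L_none]; exact rep_packL ((sqNorm_e8 none).le.trans (by norm_num))
  have h64 : sqNorm ((eightVec none : leechLattice) : GolayPt → ℤ) ≤ 80 := by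
    rw [sqNorm_eightVec]; norm_num
  have hcase : ∃ g' : Co0, proj g' = proj g ∧ g' * g11 = g11 * g' ∧
      g' • eightVec none = moveEl m • eightVec none := by
    rcases hm' with e | e
    · refine ⟨g, rfl, hg, Subtype.ext ?_⟩
      rw [hu]
      exact (rep_inj (rep_smul (valid_move m) hroot h64 e) (rep_packL hpn)
        (by rw [sqNorm_smul]; exact h64) hpn).symm
    · refine ⟨negEl * g, by rw [map_mul, proj_negEl, one_mul], ?_, Subtype.ext ?_⟩
      · rw [mul_assoc, hg, ← mul_assoc, ← negEl_comm g11, mul_assoc]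
      · rw [mul_smul, coe_negEl_smul, hu, ← hneg]
        exact (rep_inj (rep_smul (valid_move m) hroot h64 e) (rep_packL (by rw [hneg, sqNorm_neg]; exact hpn))
          (by rw [sqNorm_smul]; exact h64) (by rw [hneg, sqNorm_neg]; exact hpn)).symm
  obtain ⟨g', hg', hgc, hg8⟩ := hcase
  have hs := hmove m hm
  have hconj : (moveEl m)⁻¹ * g11 = g11 ^ moveExp m * (moveEl m)⁻¹ := by
    calc (moveEl m)⁻¹ * g11 = (moveEl m)⁻¹ * (g11 * moveEl m) * (moveEl m)⁻¹ := by group
      _ = g11 ^ moveExp m * (moveEl m)⁻¹ := by rw [← hs]; group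
  obtain ⟨h1, i, hi, a, ha, e⟩ := stab_cases (e := moveExp m) (g := (moveEl m)⁻¹ * g')
    (by unfold moveExp; cases Nat.blt m 3 <;> simp)
    (by rw [mul_smul, hg8, inv_smul_smul])
    (by rw [mul_assoc, hgc, ← mul_assoc, hconj, mul_assoc])
  have hm3 : m < 3 := by
    by_contra hh
    have : Nat.blt m 3 = false := by
      rw [← Bool.not_eq_true, Nat.blt_eq]; exact hh
    simp [moveExp, this] at h1
  have hme : moveEl m = fEl ^ m := by
    simp [moveEl, show Nat.blt m 3 = true by rwa [Nat.blt_eq]]
  rw [inv_mul_eq_iff_eq_mul, hme] at e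
  have hsix := six_ok
  simp only [sixOk, List.all_eq_true, List.mem_range, List.any_eq_true] at hsix
  obtain ⟨k, hk, hkk⟩ := hsix m hm3 a ha
  refine ⟨i, hi, k, hk, ?_⟩
  rw [← hg', e, map_mul proj (g11 ^ i), ← proj_of_eqP (valid_mul (valid_pow valid_f m)
    (valid_pow valid_d a)) (valid_six k) hkk, ← map_mul]
  refine congrArg proj ?_
  rw [← mul_assoc, ← mul_assoc, ((show Commute g11 fEl from hf).pow_pow i m).eq]

end CfsgLib.Leech.Aut.CoOne
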