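import Cfsg.Agent.Lib.Leech.Aut.Co1Cands
import Cfsg.Agent.Lib.Leech.Aut.Co3Out
import Cfsg.Agent.Lib.Leech.Simple.Co1

/-! All automorphisms of Co1 are inner. -/

set_option autoImplicit false
set_option maxRecDepth 100000

namespace CfsgLib.Leech.Aut.CoOne

open Cfsg CfsgLib CfsgLib.Leech.Stab CfsgLib.Comp

/-- After an inner automorphism, `x` goes to itself or its inverse and `z` is fixed. -/
theorem normalise_xz {G : Type*} [Group G] {x z : G} (hx : orderOf x = 23)
    (hC : Subgroup.centralizer ({x} : Set G) ≤ Subgroup.zpowers x) (hzx : z * x * z⁻¹ = x ^ 12)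
    (a : MulAut G) {j : ℕ} (hj : a x = x ^ j) :
    ∃ c ∈ Subgroup.closure ({x, z} : Set G), ∃ e : ℕ, e < 2 ∧
      (MulAut.conj c * a) x = x ^ (1 + 21 * e) ∧ (MulAut.conj c * a) z = z := by
  have hpm : ∀ n : ℕ, x ^ (n % 23) = x ^ n := fun n => by rw [← hx, pow_mod_orderOf]
  have hz : ∀ i n : ℕ, z ^ i * x ^ n * (z ^ i)⁻¹ = x ^ (n * 12 ^ i) := by
    intro i
    induction i with
    | zero => simp
    | succ i ih =>
      intro n
      rw [pow_succ, show z ^ i * z * x ^ n * (z ^ i * z)⁻¹ = z ^ i * (z * x ^ n * z⁻¹) * (z ^ i)⁻¹ by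
        group, ← conj_pow, hzx, ← pow_mul, ih, pow_succ]
      congr 1; ring
  have hj0 : j % 23 ≠ 0 := fun e => by
    rw [← hpm, e, pow_zero, map_eq_one_iff a a.injective] at hj
    rw [hj, orderOf_one] at hx; omega
  obtain ⟨i, e, hie⟩ := Pins.cover ⟨j % 23, Nat.mod_lt _ (by norm_num)⟩ hj0
  set a1 : MulAut G := MulAut.conj (z ^ i.val) * a
  have hx1 : a1 x = x ^ (1 + 21 * e.val) := by
    rw [MulAut.mul_apply, MulAut.conj_apply, hj, hz, ← hpm, Nat.mul_mod, ← hie]
    simp [Nat.mul_mod]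
  set n := 1 + 21 * e.val with hn
  have hcent : (z⁻¹ * a1 z) * x = x * (z⁻¹ * a1 z) := by
    have h1 := congrArg a1 hzx
    rw [map_mul, map_mul, map_inv, map_pow, hx1] at h1
    have h2 : z * x ^ n * z⁻¹ = (x ^ n) ^ 12 := by
      have := hz 1 n
      rw [pow_one, pow_one] at this
      rw [this, ← pow_mul]
    have h3 : Commute (z⁻¹ * a1 z) (x ^ n) := by
      show _ = _
      calc z⁻¹ * a1 z * x ^ n = z⁻¹ * (a1 z * x ^ n * (a1 z)⁻¹) * a1 z := by group
        _ = z⁻¹ * (z * x ^ n * z⁻¹) * a1 z := by rw [h1, h2]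
        _ = x ^ n * (z⁻¹ * a1 z) := by group
    have h5 : (x ^ n) ^ n = x := by
      rw [← pow_mul, ← hpm]
      have he : e.val = 0 ∨ e.val = 1 := by have := e.isLt; omega
      rcases he with he | he <;> simp [hn, he]
    have h4 := (h3.pow_right n).eq
    rwa [h5] at h4
  obtain ⟨m, hm⟩ := hC (Subgroup.mem_centralizer_singleton_iff.2 hcent)
  refine ⟨x ^ (-m) * z ^ i.val, mul_mem (zpow_mem (Subgroup.subset_closure (by simp)) _)
    (pow_mem (Subgroup.subset_closure (by simp)) _), e.val, e.isLt, ?_⟩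
  rw [map_mul, mul_assoc]
  constructor
  · show MulAut.conj (x ^ (-m)) (a1 x) = _
    rw [MulAut.conj_apply, hx1, ← zpow_natCast, ← zpow_add, ← zpow_neg, ← zpow_add]
    congr 1; ring
  · have hzm : a1 z = z * x ^ m := by
      rw [show x ^ m = z⁻¹ * a1 z from hm, mul_inv_cancel_left]
    have h2 : z * x ^ (2 : ℤ) * z⁻¹ = x := by
      have := hz 1 2
      rw [pow_one, pow_one, ← hpm (2 * 12)] at this
      rw [zpow_ofNat]; simpa using this
    have h2m : z⁻¹ * x ^ (-m) * z = x ^ (-(2 * m)) := by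
      have h6 : (z * x ^ (2 : ℤ) * z⁻¹) ^ (-m) = x ^ (-m) := by rw [h2]
      rw [conj_zpow, ← zpow_mul] at h6
      rw [← h6, show -(2 * m) = 2 * -m by ring]; group
    show MulAut.conj (x ^ (-m)) (a1 z) = _
    rw [MulAut.conj_apply, hzm]
    calc x ^ (-m) * (z * x ^ m) * (x ^ (-m))⁻¹
        = z * (z⁻¹ * x ^ (-m) * z) * (x ^ m * x ^ m) := by group
      _ = z := by
        rw [h2m, mul_assoc, ← zpow_add, ← zpow_add, show -(2 * m) + (m + m) = 0 by ring, zpow_zero,
          mul_one]

/-- The image of the element of order 23. -/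
abbrev bx : Co0 ⧸ Subgroup.center Co0 := proj shiftEl
/-- The image of the element of order 11. -/
abbrev bz : Co0 ⧸ Subgroup.center Co0 := proj g11
/-- The image of the normalising element. -/
noncomputable abbrev bq : Co0 ⧸ Subgroup.center Co0 := proj qEl
/-- The image of the sign change. -/
abbrev bd : Co0 ⧸ Subgroup.center Co0 := proj deltaEl
/-- The image of the element of order three. -/
noncomputable abbrev bf : Co0 ⧸ Subgroup.center Co0 := proj fEl
/-- The images of the six elements. -/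
noncomputable abbrev bs (k : ℕ) : Co0 ⧸ Subgroup.center Co0 := proj (sixEl k)

/-- The generated subgroup. -/
noncomputable def gen : Subgroup (Co0 ⧸ Subgroup.center Co0) :=
  Subgroup.closure {bx, bz, bq, bd, bf}

theorem bs_mem (k : ℕ) : bs k ∈ gen := by
  rw [bs, sixEl, map_mul, map_pow, map_pow]
  exact mul_mem (pow_mem (Subgroup.subset_closure (by simp)) _)
    (pow_mem (Subgroup.subset_closure (by simp)) _)

theorem negEl_ne_one : negEl ≠ 1 := by
  intro h
  have := negEl_not_fix (w := eightVec none) (fun e => by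
    have := congrArg (fun u : leechLattice => (u : GolayPt → ℤ) none) e
    simp [coe_eightVec] at this)
  rw [h, one_smul] at this
  exact this rfl

theorem proj_ne_one {g : Co0} {p : ℕ} (hp : p.Prime) (ho : orderOf g = p) (h2 : p ≠ 2) :
    proj g ≠ 1 := by
  intro h
  rcases center_cases ((QuotientGroup.eq_one_iff _).1 h) with e | e
  · rw [e, orderOf_one] at ho; exact hp.one_lt.ne ho
  · have h3 : negEl ^ 2 = 1 := by rw [pow_two, sq_negEl]
    rw [← e] at h3
    have := orderOf_dvd_of_pow_eq_one h3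
    rw [ho] at this
    exact h2 ((Nat.prime_dvd_prime_iff_eq hp Nat.prime_two).1 this)

theorem order_bx : orderOf bx = 23 := by
  haveI : Fact (Nat.Prime 23) := ⟨by norm_num⟩
  refine orderOf_eq_prime ?_ (proj_ne_one (by norm_num) orderOf_shiftEl (by norm_num))
  rw [← map_pow, show shiftEl ^ 23 = 1 from orderOf_shiftEl ▸ pow_orderOf_eq_one shiftEl, map_one]

theorem order_bz : orderOf bz = 11 := by
  haveI : Fact (Nat.Prime 11) := ⟨by norm_num⟩
  refine orderOf_eq_prime ?_ (proj_ne_one (by norm_num) orderOf_g11 (by norm_num))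
  rw [← map_pow, show g11 ^ 11 = 1 from orderOf_g11 ▸ pow_orderOf_eq_one g11, map_one]

theorem odd_comm {g y : Co0} {n : ℕ} (hn : Odd n) (hy : y ^ n = 1) (h : Commute (proj g) (proj y)) :
    g * y = y * g := by
  have h' : proj (g * y) = proj (y * g) := by rw [map_mul, map_mul, h.eq]
  rcases proj_eq_cases h' with e | e
  · exact e
  exfalso
  have e1 : (g * y * g⁻¹) ^ n = 1 := by rw [conj_pow, hy, mul_one, mul_inv_cancel]
  rw [e, show negEl * (y * g) * g⁻¹ = negEl * y by group, (show Commute negEl y from (negEl_comm y).symm).mul_pow, hy, mul_one] at e1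
  obtain ⟨k, rfl⟩ := hn
  rw [pow_succ, pow_mul, pow_two, sq_negEl, one_pow, one_mul] at e1
  exact negEl_ne_one e1

theorem centralizer_bx : Subgroup.centralizer ({bx} : Set (Co0 ⧸ Subgroup.center Co0)) ≤
    Subgroup.zpowers bx := by
  intro a ha
  obtain ⟨g, rfl⟩ := QuotientGroup.mk'_surjective _ a
  have hg := odd_comm (y := shiftEl) (n := 23) (by decide)
    (orderOf_shiftEl ▸ pow_orderOf_eq_one shiftEl) (Subgroup.mem_centralizer_singleton_iff.1 ha)
  obtain ⟨k, hk⟩ := centralizer_shiftEl_le (Subgroup.mem_centralizer_singleton_iff.2 hg)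
  refine ⟨k, ?_⟩
  show bx ^ k = proj g
  rw [← show (negEl * shiftEl) ^ k = g from hk, map_zpow, map_mul, proj_negEl, one_mul]

theorem centralizer_bz {a : Co0 ⧸ Subgroup.center Co0} (ha : a * bz = bz * a) :
    ∃ i : ℕ, i < 11 ∧ ∃ k : ℕ, k < 6 ∧ a = bz ^ i * bs k := by
  obtain ⟨g, rfl⟩ := QuotientGroup.mk'_surjective _ a
  have hg := odd_comm (y := g11) (n := 11) (by decide) (orderOf_g11 ▸ pow_orderOf_eq_one g11) ha
  obtain ⟨i, hi, k, hk, e⟩ := centralizer_cases hg
  exact ⟨i, hi, k, hk, by rw [← map_pow, ← map_mul]; exact e⟩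

/-- The six elements have exponent six. -/
def sixPowOk : Bool := (List.range 6).all fun k => eqP (powC (sixC k) 6) idC

theorem sixPow_ok : sixPowOk = true := by decide +kernel

theorem six_pow {k : ℕ} (hk : k < 6) : bs k ^ 6 = 1 := by
  have h := List.all_eq_true.1 sixPow_ok k (List.mem_range.2 hk)
  rw [← map_pow, ← map_one proj]
  exact proj_of_eqP (valid_pow (valid_six k) 6) valid_one h

theorem six_comm (k : ℕ) : Commute bz (bs k) := by
  obtain ⟨hd, hf, -⟩ := identities
  exact ((show Commute g11 deltaEl from hd).pow_right _ |>.mul_right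
    ((show Commute g11 fEl from hf).pow_right _)).map proj

theorem six_three : sixEl 3 = deltaEl := by simp [sixEl]

theorem six_one : sixEl 1 = fEl := by simp [sixEl]

theorem mem_six {a : Co0 ⧸ Subgroup.center Co0} (ha : a * bz = bz * a) (h6 : a ^ 6 = 1) :
    ∃ k, k < 6 ∧ a = bs k := by
  obtain ⟨i, hi, k, hk, rfl⟩ := centralizer_bz ha
  rw [((six_comm k).pow_left i).mul_pow, six_pow hk, mul_one, ← pow_mul] at h6
  have h1 := orderOf_dvd_of_pow_eq_one h6
  rw [order_bz] at h1
  obtain rfl : i = 0 := by omega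
  exact ⟨k, hk, by rw [pow_zero, one_mul]⟩

theorem z_conj_x : bz * bx * bz⁻¹ = bx ^ 12 := by
  obtain ⟨-, -, -, hzx, -⟩ := identities
  rw [mul_inv_eq_iff_eq_mul, ← map_pow, ← map_mul, ← map_mul, hzx]

theorem q_conj_z : bq * bz * bq⁻¹ = bz ^ 2 := by
  obtain ⟨-, -, hqz, -⟩ := identities
  rw [mul_inv_eq_iff_eq_mul, ← map_pow, ← map_mul, ← map_mul, hqz]

theorem no_bad {l : List Co0} {L : List (List ℕ)} {l' : List Co0} {F : List (ℕ → ℕ)}
    (h : List.Forall₂ Valid l L) (h' : List.Forall₂ Follows l' F) {r : Ex}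
    (hr : eqP (r.cols L) idC = true) (hr' : movesB (r.act F) = true)
    (a : MulAut (Co0 ⧸ Subgroup.center Co0)) (hmap : (l.map proj).map a = l'.map proj) : False := by
  have h1 := proj_of_eqP (Ex.valid h r) valid_one hr
  rw [map_one, Ex.map_eval] at h1
  have h2 : proj (r.eval l') = 1 := by
    rw [Ex.map_eval, ← hmap, ← MulEquiv.coe_toMonoidHom, ← Ex.map_eval, h1, map_one]
  obtain ⟨n1, n2⟩ := moves_spec (Ex.follows h' r) hr'
  rcases center_cases ((QuotientGroup.eq_one_iff _).1 h2) with e | e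
  exacts [n1 e, n2 e]

/-- An automorphism keeping the group of `x` is trivial on the generators after an inner one. -/
theorem normalise (a : MulAut (Co0 ⧸ Subgroup.center Co0)) {j : ℕ} (hj : a bx = bx ^ j) :
    ∃ c ∈ gen, ∀ g ∈ gen, (MulAut.conj c * a) g = g := by
  obtain ⟨c, hc, e, he, hxe, hz⟩ := normalise_xz order_bx centralizer_bx z_conj_x a hj
  have hcg : c ∈ gen := Subgroup.closure_mono (by
    intro y hy
    simp only [Set.mem_insert_iff, Set.mem_singleton_iff] at hy ⊢
    tauto) hc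
  refine ⟨c, hcg, ?_⟩
  set b := MulAut.conj c * a
  have hcomm : ∀ k, b (bs k) * bz = bz * b (bs k) := fun k => by
    calc b (bs k) * bz = b (bs k * bz) := by rw [map_mul b (bs k) bz, hz]
      _ = b (bz * bs k) := congrArg b (six_comm k).eq.symm
      _ = bz * b (bs k) := by rw [map_mul b bz (bs k), hz]
  have h6 : ∀ k < 6, b (bs k) ^ 6 = 1 := fun k hk => by rw [← map_pow, six_pow hk, map_one]
  obtain ⟨k, hk, hbd⟩ := mem_six (hcomm 3) (h6 3 (by norm_num))
  obtain ⟨l, hl, hbf⟩ := mem_six (hcomm 1) (h6 1 (by norm_num))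
  rw [bs, six_three] at hbd
  rw [bs, six_one] at hbf
  obtain ⟨hrA, hrB⟩ : relsA.all (fun r => eqP (r.cols [xC, zC, dC, fC]) idC) = true ∧
      relsB.all (fun r => eqP (r.cols [xC, zC, dC, fC, qC]) idC) = true := by
    have h := rels_ok
    rwa [relsOk, Bool.and_eq_true] at h
  have hA : e = 0 ∧ k = 3 ∧ l = 1 := by
    have h := candsA_ok
    simp only [candsA, List.all_eq_true, List.mem_range] at h
    have h' := h e he k hk l hl
    simp only [Bool.or_eq_true, Bool.and_eq_true, beq_iff_eq, List.any_eq_true, Bool.not_eq_true'] at h'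
    rcases h' with h' | ⟨r, hr, hne⟩
    · exact ⟨h'.1.1, h'.1.2, h'.2⟩
    exfalso
    have Ve : Valid (shiftEl ^ (1 + 21 * e)) (bif e == 0 then xC else xiC) := by
      interval_cases e
      · simpa using valid_x
      · have : shiftEl ^ 22 = shiftEl⁻¹ := eq_inv_of_mul_eq_one_left (by
          rw [← pow_succ]; simpa [orderOf_shiftEl] using pow_orderOf_eq_one shiftEl)
        simpa [this] using valid_xi
    refine no_bad (l := [shiftEl, g11, deltaEl, fEl])
      (l' := [shiftEl ^ (1 + 21 * e), g11, sixEl k, sixEl l])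
      (.cons valid_x (.cons valid_z (.cons valid_d (.cons valid_f .nil))))
      (.cons (follows_stepC Ve) (.cons (follows_stepC valid_z) (.cons (follows_six hk) (.cons (follows_six hl) .nil))))
      (List.all_eq_true.1 hrA r hr) hne b ?_
    simp only [List.map_cons, List.map_nil, map_pow]
    exact congrArg₂ List.cons hxe (congrArg₂ List.cons hz (congrArg₂ List.cons hbd
      (congrArg₂ List.cons hbf rfl)))
  obtain ⟨rfl, rfl, rfl⟩ := hA
  rw [mul_zero, add_zero, pow_one] at hxe
  rw [bs, six_three] at hbd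
  rw [bs, six_one] at hbf
  obtain ⟨i, hi, k', hk', hq⟩ := centralizer_bz (a := bq⁻¹ * b bq) (by
    have h1 := congrArg b q_conj_z
    rw [map_mul, map_mul, map_inv, map_pow, hz, ← q_conj_z] at h1
    calc bq⁻¹ * b bq * bz = bq⁻¹ * (b bq * bz * (b bq)⁻¹) * b bq := by group
      _ = bz * (bq⁻¹ * b bq) := by rw [h1]; group)
  have hB : i = 0 ∧ k' = 0 := by
    have h := candsB_ok
    simp only [candsB, List.all_eq_true, List.mem_range] at h
    have h' := h i hi k' hk'
    simp only [Bool.or_eq_true, Bool.and_eq_true, beq_iff_eq, List.any_eq_true, Bool.not_eq_true'] at h'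
    rcases h' with h' | ⟨r, hr, hne⟩
    · exact h'
    exfalso
    refine no_bad (l := [shiftEl, g11, deltaEl, fEl, qEl])
      (l' := [shiftEl, g11, deltaEl, fEl, qEl * (g11 ^ i * sixEl k')])
      (.cons valid_x (.cons valid_z (.cons valid_d (.cons valid_f (.cons valid_q .nil)))))
      (.cons (follows_stepC valid_x) (.cons (follows_stepC valid_z) (.cons (follows_stepC valid_d)
        (.cons (follows_stepC valid_f) (.cons ((follows_stepC valid_q).mul
          ((follows_iter (follows_stepC valid_z) i).mul (follows_six hk'))) .nil)))))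
      (List.all_eq_true.1 hrB r hr) hne b ?_
    simp only [List.map_cons, List.map_nil, map_mul, map_pow]
    exact congrArg₂ List.cons hxe (congrArg₂ List.cons hz (congrArg₂ List.cons hbd
      (congrArg₂ List.cons hbf (congrArg₂ List.cons (inv_mul_eq_iff_eq_mul.1 hq) rfl))))
  obtain ⟨rfl, rfl⟩ := hB
  have hq0 : b bq = bq := by
    rw [pow_zero, one_mul, bs, show sixEl 0 = 1 by simp [sixEl], map_one, inv_mul_eq_one] at hq
    exact hq.symm
  intro g hg
  induction hg using Subgroup.closure_induction with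
  | mem y hy =>
    simp only [Set.mem_insert_iff, Set.mem_singleton_iff] at hy
    rcases hy with rfl | rfl | rfl | rfl | rfl
    exacts [hxe, hz, hq0, hbd, hbf]
  | one => exact map_one _
  | mul u w _ _ hu hw => rw [map_mul, hu, hw]
  | inv u _ hu => rw [map_inv, hu]

theorem mem_of_conj_x (n : Co0 ⧸ Subgroup.center Co0) (h : n * bx * n⁻¹ ∈ Subgroup.zpowers bx) :
    n ∈ gen := by
  have hfin : IsOfFinOrder bx := orderOf_pos_iff.1 (by rw [order_bx]; norm_num)
  obtain ⟨j, hj⟩ := (Submonoid.mem_powers_iff _ _).1 (hfin.mem_powers_iff_mem_zpowers.2 h)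
  obtain ⟨c, hc, hfix⟩ := normalise (MulAut.conj n) (j := j) (by rw [MulAut.conj_apply, hj])
  have h1 := hfix bx (Subgroup.subset_closure (by simp))
  rw [← map_mul, MulAut.conj_apply, mul_inv_eq_iff_eq_mul] at h1
  have h2 : c * n ∈ gen := Subgroup.zpowers_le.2 (Subgroup.subset_closure (by simp))
    (centralizer_bx (Subgroup.mem_centralizer_singleton_iff.2 h1))
  have := mul_mem (inv_mem hc) h2
  rwa [inv_mul_cancel_left] at this

theorem prim_two : ∀ j : Fin 11, j.val ≠ 0 → ∃ i : Fin 10, 2 ^ i.val % 11 = j.val := by decide +kernel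

theorem mem_of_conj_z (n : Co0 ⧸ Subgroup.center Co0) (h : n * bz * n⁻¹ ∈ Subgroup.zpowers bz) :
    n ∈ gen := by
  have hfin : IsOfFinOrder bz := orderOf_pos_iff.1 (by rw [order_bz]; norm_num)
  obtain ⟨j, hj⟩ := (Submonoid.mem_powers_iff _ _).1 (hfin.mem_powers_iff_mem_zpowers.2 h)
  have hj0 : j % 11 ≠ 0 := fun e => by
    rw [← pow_mod_orderOf, order_bz, e, pow_zero, eq_comm, conj_eq_one_iff] at hj
    have := order_bz; rw [hj, orderOf_one] at this; omega
  obtain ⟨i, hi⟩ := prim_two ⟨j % 11, Nat.mod_lt _ (by norm_num)⟩ hj0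
  have hq : ∀ i : ℕ, bq ^ i * bz * (bq ^ i)⁻¹ = bz ^ (2 ^ i) := by
    intro i
    induction i with
    | zero => simp
    | succ i ih =>
      rw [pow_succ, show bq ^ i * bq * bz * (bq ^ i * bq)⁻¹ = bq ^ i * (bq * bz * bq⁻¹) * (bq ^ i)⁻¹ by
        group, q_conj_z, ← conj_pow, ih, ← pow_mul, ← pow_succ]
  have e : bq ^ i.val * bz * (bq ^ i.val)⁻¹ = n * bz * n⁻¹ := by
    rw [hq, ← hj, ← pow_mod_orderOf bz j, ← pow_mod_orderOf, order_bz, hi]
  obtain ⟨a, -, k, -, hab⟩ := centralizer_bz (a := (bq ^ i.val)⁻¹ * n) (by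
    calc (bq ^ i.val)⁻¹ * n * bz = (bq ^ i.val)⁻¹ * (n * bz * n⁻¹) * n := by group
      _ = bz * ((bq ^ i.val)⁻¹ * n) := by rw [← e]; group)
  have h1 : bz ^ a * bs k ∈ gen := mul_mem (pow_mem (Subgroup.subset_closure (by simp)) _) (bs_mem k)
  rw [← hab] at h1
  have := mul_mem (pow_mem (show bq ∈ gen from Subgroup.subset_closure (by simp)) i.val) h1
  rwa [mul_inv_cancel_left] at this

/-- Permutations as monomial elements. -/
def permHom : M24 →* Co0 where
  toFun σ := monoEl (σ : Equiv.Perm GolayPt)⁻¹ (inv_mem σ.2) 0 (zero_mem _)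
  map_one' := (monoEl_congr inv_one rfl).trans monoEl_one
  map_mul' σ τ := by
    rw [monoEl_mul]
    exact monoEl_congr (mul_inv_rev _ _) (by funext i; simp)

theorem x_mem : shiftEl ∈ gen.comap proj := Subgroup.subset_closure (by simp)

theorem z_mem : g11 ∈ gen.comap proj := Subgroup.subset_closure (by simp)

theorem q_mem' : qEl ∈ gen.comap proj := Subgroup.subset_closure (by simp)

theorem perm_mem {τ : Equiv.Perm GolayPt} (hτ : τ ∈ M24) :
    monoEl τ hτ 0 (zero_mem _) ∈ gen.comap proj := by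
  have hg := gens_ok
  simp only [gensOk, Bool.and_eq_true, List.all_eq_true, beq_iff_eq, List.mem_range, Nat.beq_eq] at hg
  obtain ⟨⟨hgood, hlen⟩, hcodes⟩ := hg
  let U : Subgroup (Equiv.Perm GolayPt) := ((gen.comap proj).comap permHom).map M24.subtype
  have hU : ∀ c ∈ m24Gens, M24Elt.pm c ∈ U := by
    intro c hc
    obtain ⟨k, hk, rfl⟩ := List.mem_iff_getElem.1 hc
    have hok := M24Elt.good_ok (hgood _ hc)
    refine ⟨⟨_, M24Elt.pm_mem (hgood _ hc)⟩, ?_, rfl⟩
    have key : monoEl (M24Elt.pm m24Gens[k]) (M24Elt.pm_mem (hgood _ hc)) 0 (zero_mem _) ∈ gen.comap proj →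
        permHom ⟨_, M24Elt.pm_mem (hgood _ hc)⟩ ∈ gen.comap proj := fun h => by
      have h' := inv_mem h
      rw [monoEl_inv] at h'
      show monoEl (M24Elt.pm m24Gens[k])⁻¹ (inv_mem (M24Elt.pm_mem (hgood _ hc))) 0 (zero_mem _) ∈ _
      exact monoEl_mem_congr h' rfl (by funext i; simp)
    have hperm : ∀ (σ : Equiv.Perm GolayPt),
        (∀ j < 24, PermCode.get (m24Gens[k]) j = Golay.bit (σ (Golay.pt j))) →
        σ = M24Elt.pm (m24Gens[k]) := fun σ h => Equiv.ext fun p => Golay.bit_injective (by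
      rw [M24Elt.bit_pm hok, h _ (Golay.bit_lt p), Golay.pt_bit])
    have hk3 : k < 3 := hlen ▸ hk
    apply key
    interval_cases k
    · refine monoEl_mem_congr (a := shiftPerm) (ha := shiftPerm_mem) (hc := zero_mem _) x_mem
        (hperm _ fun j hj => ?_) rfl
      have := (hcodes j hj).1; rwa [List.getD_eq_getElem _ _ hk] at this
    · refine monoEl_mem_congr (a := mulTwoPerm) (ha := mulTwoPerm_mem) (hc := zero_mem _) z_mem
        (hperm _ fun j hj => ?_) rfl
      have := (hcodes j hj).2; rwa [List.getD_eq_getElem _ _ hk] at this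
    · refine monoEl_mem_congr q_mem' ?_ rfl
      rw [List.getD_eq_getElem _ _ hk]
  have hall : M24Elt.spanPts m24Gens = M24 :=
    Subgroup.eq_of_le_of_card_ge (M24Elt.spanPts_le fun c hc => M24Elt.pm_mem (hgood c hc))
      (by rw [M24Elt.card_spanPts, m24_card, Golay.card_M24])
  obtain ⟨σ, hσ, e⟩ := (hall ▸ M24Elt.spanPts_le hU : M24 ≤ U) (inv_mem hτ)
  have h2 : permHom σ ∈ gen.comap proj := hσ
  exact monoEl_mem_congr (a := (σ : Equiv.Perm GolayPt)⁻¹) (ha := inv_mem σ.2) (hc := zero_mem _) h2 (by rw [show (σ : Equiv.Perm GolayPt) = τ⁻¹ from e, inv_inv]) rfl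

theorem qr_shift : ∀ t : ZMod 23, ∀ p : GolayPt, qrWord t p = qrWord 0 ((shiftPerm ^ (-t).val) p) := by
  decide +kernel

theorem monoSub_le : monoSub ≤ gen.comap proj := by
  have hd : deltaEl ∈ gen.comap proj := Subgroup.subset_closure (by simp)
  have hn : negEl ∈ gen.comap proj := by rw [Subgroup.mem_comap, proj_negEl]; exact one_mem _
  have hall : golayCode ≤ signPart (gen.comap proj) := by
    refine Submodule.span_le.2 ?_
    rintro _ (⟨t, rfl⟩ | rfl)
    · have hσ : shiftPerm ^ (-t).val ∈ M24 := pow_mem shiftPerm_mem _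
      have h := mul_mem (mul_mem (perm_mem hσ) hd) (perm_mem (inv_mem hσ))
      rw [deltaEl, monoEl_mul, monoEl_mul] at h
      refine ⟨qrWord_mem t, monoEl_mem_congr h (by simp) ?_⟩
      funext p
      simp only [Pi.add_apply, Pi.zero_apply, Function.comp_apply, zero_add, add_zero]
      exact (qr_shift t p).symm
    · exact ⟨Golay.one_mem_golay, negEl_eq_monoEl ▸ hn⟩
  intro g hg
  obtain ⟨τ, hτ, c, hc, rfl⟩ := exists_mono_of_stdStab hg
  obtain ⟨_, h1⟩ := hall hc
  have h := mul_mem h1 (perm_mem hτ)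
  rw [monoEl_mul] at h
  exact monoEl_mem_congr h (mul_one _) (by funext i; simp)

theorem stab_le : MulAction.stabilizer Co0 vecCo3 ≤ gen.comap proj := by
  have hb := base_ok
  simp only [baseOk, Bool.and_eq_true, eqC_iff] at hb
  have hq : Valid (qEl * qEl) CoThree.cert.qC := hb.1.2.1.2 ▸ valid_mul valid_q valid_q
  obtain ⟨t, ht⟩ := CoThree.t_exists
  obtain ⟨P, hgen, hx, hz, hpq, hpt⟩ := exists_pins (C := CoThree.cert) (v := vecCo3) rfl hq ht
    CoThree.base_ok CoThree.rels_ok CoThree.cands_ok CoThree.gens_ok CoThree.m23_card CoThree.orb_ok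
    (by norm_num) CoThree.orb_len (by rw [card_stabilizer48 sqNorm_vecCo3]; rfl) (by decide +kernel)
    (by decide +kernel) CoThree.index_ok
  have htH : t ∈ gen.comap proj := by
    have htz : t * g11 = g11 * t :=
      eq_of_eqC (valid_mul ht valid_z) (valid_mul valid_z ht) (eqC_iff.2 hb.1.2.2)
    obtain ⟨i, -, k, -, e⟩ := centralizer_cases htz
    rw [Subgroup.mem_comap, e, map_mul, map_pow]
    exact mul_mem (pow_mem (Subgroup.subset_closure (by simp)) _) (bs_mem k)
  intro g hg
  have h : (⟨g, hg⟩ : MulAction.stabilizer Co0 vecCo3) ∈ P.gen := hgen ▸ Subgroup.mem_top _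
  have hle : P.gen ≤ (gen.comap proj).comap (MulAction.stabilizer Co0 vecCo3).subtype := by
    rw [Pins.gen, Subgroup.closure_le]
    intro y hy
    simp only [Set.mem_insert_iff, Set.mem_singleton_iff] at hy
    show ((y : Co0)) ∈ gen.comap proj
    rcases hy with rfl | rfl | rfl | rfl
    · rw [hx]; exact x_mem
    · rw [hz]; exact z_mem
    · rw [hpq]; exact mul_mem q_mem' q_mem'
    · rw [hpt]; exact htH
  exact hle h

theorem index_cases : ((List.range 4096).all fun d =>
    d == 1 || !(4095 % d == 0 && d % 23 == 1 && d % 11 == 1)) = true := by decide +kernel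

/-- `Out` of Co1 has order one. -/
theorem card_out : Nat.card (Cfsg.Out (Co0 ⧸ Subgroup.center Co0)) = 1 := by
  haveI : Fact (Nat.Prime 23) := ⟨by norm_num⟩
  haveI : Fact (Nat.Prime 11) := ⟨by norm_num⟩
  have hcard : Nat.card (Co0 ⧸ Subgroup.center Co0) = 4157776806543360000 := by
    have h := Subgroup.card_eq_card_quotient_mul_card_subgroup (Subgroup.center Co0)
    rw [card_Co0, card_center] at h
    omega
  have hsq : ¬ 23 ^ 2 ∣ Nat.card (Co0 ⧸ Subgroup.center Co0) := by rw [hcard]; norm_num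
  have hidx : gen.index = 1 := by
    have hd1 : gen.index ∣ 8292375 := by
      rw [← Subgroup.index_comap_of_surjective gen (QuotientGroup.mk'_surjective _), ← monoSub_index]
      exact Subgroup.index_dvd_of_le monoSub_le
    have hd2 : gen.index ∣ 16773120 := by
      rw [← Subgroup.index_comap_of_surjective gen (QuotientGroup.mk'_surjective _),
        ← index_stabilizer48 sqNorm_vecCo3]
      exact Subgroup.index_dvd_of_le stab_le
    have hd : gen.index ∣ 4095 := (Nat.dvd_gcd hd1 hd2).trans (by norm_num)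
    have h23 := index_mod_eq_one order_bx hsq (Subgroup.subset_closure (by simp)) mem_of_conj_x
    have h11 := index_mod_eq_one order_bz (by rw [hcard]; norm_num)
      (Subgroup.subset_closure (by simp)) mem_of_conj_z
    have h := List.all_eq_true.1 index_cases gen.index
      (List.mem_range.2 (Nat.lt_succ_of_le (Nat.le_of_dvd (by norm_num) hd)))
    simpa [Nat.mod_eq_zero_of_dvd hd, show gen.index % 23 = 1 from h23,
      show gen.index % 11 = 1 from h11] using h
  rw [Nat.card_eq_one_iff_unique]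
  refine ⟨⟨?_⟩, ⟨1⟩⟩
  suffices H : ∀ q : Cfsg.Out (Co0 ⧸ Subgroup.center Co0), q = 1 from
    fun a b => (H a).trans (H b).symm
  intro q
  obtain ⟨a, rfl⟩ := QuotientGroup.mk_surjective q
  obtain ⟨c, hc⟩ := CfsgLib.M24Elt.AutBound.exists_conj_mem (S := Subgroup.zpowers bx) (k := 1)
    (by rw [Nat.card_zpowers, order_bx, pow_one]) hsq ((a.orderOf_eq bx).trans order_bx)
  have hfin : IsOfFinOrder bx := orderOf_pos_iff.1 (by rw [order_bx]; norm_num)
  obtain ⟨j, hj⟩ := (Submonoid.mem_powers_iff _ _).1 (hfin.mem_powers_iff_mem_zpowers.2 hc)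
  obtain ⟨d, -, hfix⟩ := normalise (MulAut.conj c * a) (j := j)
    (by rw [MulAut.mul_apply, MulAut.conj_apply, hj])
  rw [QuotientGroup.eq_one_iff]
  refine ⟨(d * c)⁻¹, ?_⟩
  rw [map_inv, inv_eq_iff_mul_eq_one, map_mul, mul_assoc]
  exact MulEquiv.ext fun g => hfix g (Subgroup.index_eq_one.1 hidx ▸ Subgroup.mem_top g)

end CfsgLib.Leech.Aut.CoOne
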