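import Cfsg.Agent.Lib.Leech.Aut.Co2Data
import Cfsg.Agent.Lib.Leech.Simple.Co23

/-! All automorphisms of Co2 are inner. -/

set_option autoImplicit false
set_option maxRecDepth 100000

namespace CfsgLib.Leech.Aut.CoTwo

open Cfsg CfsgLib CfsgLib.Leech.Stab

theorem slp_ok : slpB prog = true := by decide +kernel

theorem base_ok : cert.baseOk = true := by decide +kernel

theorem rels_ok : cert.relsOk = true := by decide +kernel

theorem cands_ok : cert.candsOk = true := by decide +kernel

theorem gens_ok : cert.gensOk = true := by decide +kernel

theorem orb_ok : cert.orbOk = true := by decide +kernel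

theorem orb_len : 2049 ≤ cert.orb.codes.length + 1 := by decide +kernel

theorem index_ok : cert.indexOk 2049 = true := by decide +kernel

theorem q_exists : ∃ q : Co0, Valid q cert.qC := slp_sound slp_ok qIdx (by decide +kernel)

theorem t_exists : ∃ t : Co0, Valid t cert.tC := by
  first
  | exact slp_sound slp_ok _ (by decide +kernel)
  | exact ⟨1, eqC_iff.1 (show eqC idC cert.tC = true by decide +kernel) ▸ valid_one⟩

theorem card_out_rep : Nat.card (Cfsg.Out (MulAction.stabilizer Co0 vecCo2)) = 1 :=
  card_out_stab (C := cert) rfl q_exists t_exists base_ok rels_ok cands_ok gens_ok m23_card orb_ok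
    (by norm_num) orb_len (by rw [card_stabilizer32 sqNorm_vecCo2]; rfl) (by decide +kernel)
    (by decide +kernel) index_ok

end CfsgLib.Leech.Aut.CoTwo
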