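import Cfsg.Agent.Lib.Leech.Stab.Cert
import Cfsg.Agent.Lib.Leech.Stab.HSInvol

/-! Products of elements of Co0 computed on packed columns, and evaluation of expressions. -/

set_option autoImplicit false

namespace CfsgLib.Leech.Aut

open Cfsg CfsgLib CfsgLib.Leech.Stab

/-- The packed value of a list. -/
def packL (x : ℤ) : ℕ := (x + (offN : ℤ)).toNat

theorem lin_add_off_nonneg : ∀ l : List ℤ, (∀ a ∈ l, -16 ≤ a) → 0 ≤ lin l + off l.length
  | [], _ => le_rfl
  | a :: l, h => by
    have h1 := lin_add_off_nonneg l fun b hb => h b (List.mem_cons_of_mem _ hb)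
    have h2 := h a List.mem_cons_self
    simp only [lin, List.length_cons, off]
    omega

theorem rep_packL {f : GolayPt → ℤ} (hf : sqNorm f ≤ 80) : Stab.Rep f (packL (lin (listOf f))) := by
  have h : 0 ≤ lin (listOf f) + off 24 := by
    rw [← listOf_length f]
    refine lin_add_off_nonneg _ fun a ha => ?_
    obtain ⟨p, rfl⟩ := mem_listOf ha
    have h1 : f p ^ 2 ≤ sqNorm f :=
      Finset.single_le_sum (f := fun j => f j ^ 2) (fun j _ => sq_nonneg _) (Finset.mem_univ p)
    nlinarith
  rw [offN_eq] at h
  rw [Stab.Rep, colZ, packL, offN_eq, Int.toNat_of_nonneg h]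
  ring

/-- The columns of a product. -/
def mulC (A B : List ℕ) : List ℕ := B.map fun n => packL (applyC A n / 8)

/-- The columns of the identity. -/
def idC : List ℕ := (List.range 24).map fun i => packL (lin (listOf (e8 (Golay.pt i))))

theorem valid_iff {g : Co0} {cols : List ℕ} : Valid g cols ↔ cols.length = 24 ∧
    ∀ i (h : i < cols.length), Stab.Rep ((g • e8L (Golay.pt i) : leechLattice) : GolayPt → ℤ) cols[i] := by
  constructor
  · intro h
    have hlen : cols.length = 24 := by
      have := congrArg List.length h; simpa [listOf_length] using this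
    refine ⟨hlen, fun i hi => ?_⟩
    have h3 := List.getElem_of_eq h (i := i) (by simpa using hi)
    simp only [List.getElem_map, listOf, List.getElem_range] at h3
    exact h3.symm
  · rintro ⟨hlen, h⟩
    refine List.ext_getElem (by simp [listOf_length, hlen]) fun i h1 h2 => ?_
    simp only [List.getElem_map, listOf, List.getElem_range]
    exact (h i (by simpa using h1)).symm

theorem valid_one : Valid 1 idC := by
  refine valid_iff.2 ⟨by simp [idC], fun i h => ?_⟩
  rw [one_smul]
  simp only [idC, List.getElem_map, List.getElem_range]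
  exact rep_packL ((sqNorm_e8 _).le.trans (by norm_num))

theorem valid_mul {g h : Co0} {A B : List ℕ} (hg : Valid g A) (hh : Valid h B) :
    Valid (g * h) (mulC A B) := by
  obtain ⟨hlen, hB⟩ := valid_iff.1 hh
  refine valid_iff.2 ⟨by simp [mulC, hlen], fun i hi => ?_⟩
  have hi' : i < B.length := by simpa [mulC] using hi
  have e := applyC_eq hg (hB i hi') (by rw [sqNorm_smul]; simp [e8L, sqNorm_e8])
  simp only [mulC, List.getElem_map, e, mul_smul]
  rw [Int.mul_ediv_cancel_left _ (by norm_num)]
  exact rep_packL (by rw [sqNorm_smul, sqNorm_smul]; simp [e8L, sqNorm_e8])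

theorem valid_ext {g h : Co0} {A : List ℕ} (hg : Valid g A) (hh : Valid h A) : g = h := by
  obtain ⟨hlen, h1⟩ := valid_iff.1 hg
  obtain ⟨-, h2⟩ := valid_iff.1 hh
  refine ext_e8 fun p => Subtype.ext ?_
  have hi : Golay.bit p < A.length := by rw [hlen]; exact Golay.bit_lt p
  have e1 := h1 _ hi
  have e2 := h2 _ hi
  rw [Golay.pt_bit] at e1 e2
  exact rep_inj e1 e2 (by rw [sqNorm_smul]; simp [e8L, sqNorm_e8])
    (by rw [sqNorm_smul]; simp [e8L, sqNorm_e8])

/-- Equality of column lists as packed integers. -/
def eqC : List ℕ → List ℕ → Bool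
  | [], [] => true
  | a :: l, b :: m => Nat.beq a b && eqC l m
  | _, _ => false

theorem eqC_iff : ∀ {A B : List ℕ}, eqC A B = true ↔ A = B
  | [], [] => by simp [eqC]
  | [], _ :: _ => by simp [eqC]
  | _ :: _, [] => by simp [eqC]
  | _ :: l, _ :: m => by simp [eqC, eqC_iff (A := l) (B := m), Nat.beq_eq]

theorem valid_cols_ext {g : Co0} {A B : List ℕ} (hA : Valid g A) (hB : Valid g B) : A = B := by
  have h := hA.trans hB.symm
  refine List.map_injective_iff.2 (fun a b hab => ?_) h
  simp only [colZ] at hab
  omega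

theorem eq_of_eqC {g h : Co0} {A B : List ℕ} (hg : Valid g A) (hh : Valid h B)
    (e : eqC A B = true) : g = h := valid_ext hg (eqC_iff.1 e ▸ hh)

theorem ne_of_eqC {g h : Co0} {A B : List ℕ} (hg : Valid g A) (hh : Valid h B)
    (e : eqC A B = false) : g ≠ h := by
  rintro rfl
  rw [eqC_iff.2 (valid_cols_ext hg hh)] at e
  exact Bool.noConfusion e

/-- Expressions in a list of generators. -/
inductive Ex where
  | gen : ℕ → Ex
  | mul : Ex → Ex → Ex
  | pw : Ex → ℕ → Ex

/-- Evaluation in a monoid. -/
def Ex.eval {M : Type*} [Monoid M] (l : List M) : Ex → M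
  | .gen i => l.getD i 1
  | .mul a b => a.eval l * b.eval l
  | .pw a n => a.eval l ^ n

theorem Ex.map_eval {M N : Type*} [Monoid M] [Monoid N] (f : M →* N) (l : List M) :
    ∀ e : Ex, f (e.eval l) = e.eval (l.map f)
  | .gen i => by
    simp only [Ex.eval, List.getD_eq_getElem?_getD, List.getElem?_map]
    cases l[i]? <;> simp
  | .mul a b => by simp only [Ex.eval, map_mul, Ex.map_eval f l a, Ex.map_eval f l b]
  | .pw a n => by simp only [Ex.eval, map_pow, Ex.map_eval f l a]

/-- Powers of columns. -/
def powC (A : List ℕ) : ℕ → List ℕ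
  | 0 => idC
  | n + 1 => mulC (powC A n) A

/-- Evaluation on columns. -/
def Ex.cols (l : List (List ℕ)) : Ex → List ℕ
  | .gen i => l.getD i idC
  | .mul a b => mulC (a.cols l) (b.cols l)
  | .pw a n => powC (a.cols l) n

theorem valid_pow {g : Co0} {A : List ℕ} (hg : Valid g A) : ∀ n, Valid (g ^ n) (powC A n)
  | 0 => by rw [pow_zero]; exact valid_one
  | n + 1 => by rw [pow_succ]; exact valid_mul (valid_pow hg n) hg

theorem Ex.valid {l : List Co0} {L : List (List ℕ)} (h : List.Forall₂ Valid l L) :
    ∀ e : Ex, Valid (e.eval l) (e.cols L)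
  | .gen i => by
    simp only [Ex.eval, Ex.cols]
    induction h generalizing i with
    | nil => simpa using valid_one
    | cons h1 _ ih =>
      cases i with
      | zero => simpa using h1
      | succ j => simpa using ih j
  | .mul a b => valid_mul (Ex.valid h a) (Ex.valid h b)
  | .pw a n => valid_pow (Ex.valid h a) n

end CfsgLib.Leech.Aut
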